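import Cfsg.Agent.Lib.ThreeTransp.Neighbours
import Cfsg.Prelude.Def_MonsterType

/-!
The hypotheses around an involution whose centraliser looks like the centraliser of a transvection in the
unitary group of dimension six over the field with four elements, and the pieces built on them.
-/

set_option autoImplicit false

namespace CfsgLib.KnownB.TypeUSix

open Cfsg CfsgLib.ThreeTransp

universe u

variable {G : Type u} [Group G]

/-- Three members on one line: `y` is a neighbour of `z` and `x` and commutes with all common neighbours. -/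
def Twin (D : Set G) (z x y : G) : Prop :=
  x ∈ nb D z ∧ y ∈ nb D z ∧ x ≠ y ∧ Commute x y ∧ ∀ p ∈ nb D z, Commute p x → Commute p y

/-- What is known among the neighbours of one member: the points of the generalised quadrangle of order
(4,2), each four times. -/
structure Local (D : Set G) (z : G) : Prop where
  three : ∀ x ∈ nb D z, ∀ y ∈ nb D z, ¬ Commute x y → x * y * x = y * x * y
  move : ∀ x ∈ nb D z, ∀ y ∈ nb D z, ∃ g : G, g * z * g⁻¹ = z ∧ g * x * g⁻¹ = y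
  card : (nb D z).ncard = 180
  deg : ∀ x ∈ nb D z, (nb D z ∩ nb D x).ncard = 51
  twin_symm : ∀ x y, Twin D z x y → Twin D z y x
  twin_card : ∀ x ∈ nb D z, {y | Twin D z x y}.ncard = 3
  join : ∀ x ∈ nb D z, ∀ y ∈ nb D z, ¬ Commute x y → ∃ p ∈ nb D z, Commute p x ∧ Commute p y
  meet : ∀ w ∈ nb D z, ∀ P : Finset G, P.card = 4 →
    (∀ p ∈ P, p ∈ nb D z ∧ Commute p w ∧ p ≠ w ∧ ¬ Twin D z w p) →
    (∀ p ∈ P, ∀ q ∈ P, p ≠ q → Commute p q ∧ ¬ Twin D z p q) →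
    ∀ a ∈ nb D z, ¬ Commute a w → ∃ p ∈ P, Commute a p
  four : ∀ x y, Twin D z x y → z * x * y ∉ D

/-- The class with the local data at every member. -/
structure Graph (D : Set G) : Prop where
  conj : ∀ g : G, ∀ x ∈ D, g * x * g⁻¹ ∈ D
  sq : ∀ x ∈ D, x * x = 1
  one : (1 : G) ∉ D
  trans : ∀ a ∈ D, ∀ b ∈ D, ∃ g : G, g * a * g⁻¹ = b
  loc : ∀ e ∈ D, Local D e

/-- An elementary abelian subgroup of order `2 ^ 9`: twenty-one points of a plane of order four. -/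
structure Frame (D : Set G) (d : G) (A : Subgroup G) : Prop where
  base : d ∈ D
  mem : d ∈ A
  comm : ∀ x ∈ A, ∀ y ∈ A, Commute x y
  sq : ∀ x ∈ A, x * x = 1
  types : ∀ x ∈ A, x ≠ 1 → x ∈ D ∨ (∃ a ∈ A, ∃ b ∈ A, a ∈ D ∧ b ∈ D ∧ a ≠ b ∧ x = a * b) ∨
    ∃ a ∈ A, ∃ b ∈ A, ∃ c ∈ A, a ∈ D ∧ b ∈ D ∧ c ∈ D ∧ a ≠ b ∧ a ≠ c ∧ b ≠ c ∧ x = a * b * c
  pull : ∀ x : G, Commute x d → x * x = 1 → ∃ g, Commute g d ∧ g * x * g⁻¹ ∈ A
  rel : ∃ T : List G, (∀ z ∈ T, z ∈ A ∧ z ∈ D) ∧ Odd T.length ∧ T.prod = 1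
  maxi : ∀ p ∈ D, (∀ x ∈ A, Commute x p) → p ∈ A
  outside : ∀ a ∈ A, ∀ b ∈ A, ∀ c ∈ A, a ∈ D → b ∈ D → c ∈ D → a ≠ b → a ≠ c → b ≠ c →
    ∃ y ∈ A, y ∈ D ∧ ∀ p ∈ A, ∀ q ∈ A, p ∈ D → q ∈ D → p ≠ q → a * b * c * y ≠ p * q
  second : ∃ b ∈ A, b ∈ D ∧ b ≠ d

/-- The centraliser itself. -/
structure Cent (D : Set G) (d : G) : Prop where
  card : Nat.card ↥(Subgroup.centralizer ({d} : Set G)) = 2 ^ 9 * 25920
  odd_index : Odd (Subgroup.centralizer ({d} : Set G)).index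
  gen : Subgroup.closure (nb D d) = Subgroup.centralizer ({d} : Set G)
  core : ¬ Cfsg.pCore 2 ↥(Subgroup.closure (nb D d)) ≤ Subgroup.center ↥(Subgroup.closure (nb D d))
  odd_trivial : ∀ N : Subgroup G, N ≤ Subgroup.centralizer ({d} : Set G) →
    (∀ g : G, Commute g d → ∀ x ∈ N, g * x * g⁻¹ ∈ N) → Odd (Nat.card ↥N) → N = ⊥
  two_mem : ∀ N : Subgroup G, N ≤ Subgroup.centralizer ({d} : Set G) →
    (∀ g : G, Commute g d → ∀ x ∈ N, g * x * g⁻¹ ∈ N) → IsPGroup 2 ↥N → N ≠ ⊥ → d ∈ N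
  derived : d ∈ commutator G

/-- Everything about the involution. -/
structure Data (d : G) : Prop where
  ord : orderOf d = 2
  loc : Local (conjugatesOf d) d
  cent : Cent (conjugatesOf d) d
  frame : ∃ A : Subgroup G, Frame (conjugatesOf d) d A

end CfsgLib.KnownB.TypeUSix
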