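import Cfsg.Agent.Lib.KnownB.TypeUSix.Graph
import Cfsg.Agent.Lib.KnownB.TypeCentral.Odd
import Cfsg.Agent.Lib.KnownB.TypeCentral.Dihedral
import Cfsg.Agent.Lib.Involutions.ZStar.Main

/-!
With a frame in the centraliser the commuting graph is connected: the members are a class of three-transpositions.
-/

set_option autoImplicit false
set_option linter.style.haveILetI false

namespace CfsgLib.KnownB.TypeUSix

open Cfsg CfsgLib.ThreeTransp CfsgLib.Involutions
open CfsgLib.KnownB.TypeCentral (Reach nb_conj_mem nb_swap reach_nb reach_commute dihedral le_of_odd_relation)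

universe u

variable {G : Type u} [Group G] [Finite G] {D : Set G}

omit [Finite G] in
theorem Graph.reach_conj (Γ : Graph D) (g : G) {a b : G} (h : Reach D a b) :
    Reach D (g * a * g⁻¹) (g * b * g⁻¹) := by
  induction h with
  | refl => exact Relation.ReflTransGen.refl
  | tail _ hs ih => exact ih.tail ⟨Γ.conj g _ hs.1, (nb_conj_mem Γ.conj g).2 hs.2⟩

omit [Finite G] in
theorem conj_inv_of_eq {g a b : G} (h : g * a * g⁻¹ = b) : g⁻¹ * b * g⁻¹⁻¹ = a := by rw [← h]; group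

variable {d : G} {A : Subgroup G}

omit [Finite G] in
theorem Frame.reach_pt (F : Frame D d A) {x : G} (hx : x ∈ A) (hxD : x ∈ D) : Reach D d x :=
  reach_commute F.base hxD (F.comm d F.mem x hx)

/-- The stabiliser of the component. -/
def stab (Γ : Graph D) (d : G) : Subgroup G where
  carrier := {g | Reach D d (g * d * g⁻¹)}
  one_mem' := by simp only [Set.mem_ofPred_eq, one_mul, inv_one, mul_one]; exact Relation.ReflTransGen.refl
  mul_mem' := fun {g h} hg hh => by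
    show Reach D d (g * h * d * (g * h)⁻¹)
    rw [show g * h * d * (g * h)⁻¹ = g * (h * d * h⁻¹) * g⁻¹ by group]
    exact Reach.trans hg (Γ.reach_conj g hh)
  inv_mem' := fun {g} hg => by
    show Reach D d (g⁻¹ * d * g⁻¹⁻¹)
    have h1 := Γ.reach_conj g⁻¹ (Reach.symm hg)
    rwa [conj_inv_of_eq rfl] at h1

omit [Finite G] in
theorem mem_stab_of {Γ : Graph D} {e g : G} (he : Reach D d e) (hge : Reach D d (g * e * g⁻¹)) :
    g ∈ stab Γ d :=
  Reach.trans hge (Γ.reach_conj g he.symm)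

omit [Finite G] in
theorem Graph.stab_reach (Γ : Graph D) {e g : G} (hg : g ∈ stab Γ d) (he : Reach D d e) :
    Reach D d (g * e * g⁻¹) := Reach.trans hg (Γ.reach_conj g he)

/-- An involution stabilising the component moves into the frame inside the stabiliser. -/
theorem Frame.into (Γ : Graph D) (F : Frame D d A) (K : Cent D d) {t : G} (ht : t * t = 1)
    (hts : t ∈ stab Γ d) : ∃ g, Reach D d (g * d * g⁻¹) ∧ g * t * g⁻¹ ∈ A := by
  classical
  obtain ⟨H, hH⟩ : ∃ H : Subgroup G, H = stab Γ d := ⟨_, rfl⟩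
  obtain ⟨C, hC⟩ : ∃ C : Subgroup G, C = Subgroup.centralizer ({d} : Set G) := ⟨_, rfl⟩
  have hCH : C ≤ H := fun c hc => by
    rw [hC, Subgroup.mem_centralizer_singleton_iff] at hc
    rw [hH]
    refine mem_stab_of Relation.ReflTransGen.refl ?_
    rw [mul_inv_eq_iff_eq_mul.2 (show c * d = d * c from hc)]
    exact Relation.ReflTransGen.refl
  have hdvd : (C.subgroupOf H).index ∣ C.index := C.relIndex_dvd_index_of_le hCH
  have hodd : Odd (C.subgroupOf H).index := Odd.of_dvd_nat (hC ▸ K.odd_index) hdvd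
  obtain ⟨s, hs⟩ : ∃ s : ↥H, s = ⟨t, hH.symm ▸ hts⟩ := ⟨_, rfl⟩
  haveI : Fintype (↥H ⧸ C.subgroupOf H) := Fintype.ofFinite _
  haveI := Fact.mk Nat.prime_two
  obtain ⟨q, hq⟩ := Equiv.Perm.exists_fixed_point_of_prime (p := 2) (n := 1)
    (σ := MulAction.toPermHom ↥H (↥H ⧸ C.subgroupOf H) s)
    (by rw [← Nat.card_eq_fintype_card]; exact hodd.not_two_dvd_nat)
    (by rw [← map_pow, show s ^ (2 ^ 1) = 1 from Subtype.ext (by rw [hs, pow_one, pow_two]; exact ht), map_one])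
  obtain ⟨h, rfl⟩ := QuotientGroup.mk_surjective q
  have h1 : (h : G)⁻¹ * t * h ∈ C := by
    have h2 := QuotientGroup.eq.1 (Eq.symm hq)
    rw [Subgroup.mem_subgroupOf] at h2
    simpa [hs, mul_assoc] using h2
  rw [hC, Subgroup.mem_centralizer_singleton_iff] at h1
  obtain ⟨g, hg, hgA⟩ := F.pull ((h : G)⁻¹ * t * h) h1 (by
    rw [show (h : G)⁻¹ * t * h * ((h : G)⁻¹ * t * h) = (h : G)⁻¹ * (t * t) * h by group, ht]; group)
  refine ⟨g * (h : G)⁻¹, ?_, ?_⟩
  · refine (stab Γ d).mul_mem (hH ▸ hCH ?_) ((stab Γ d).inv_mem (hH ▸ h.2))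
    rw [hC, Subgroup.mem_centralizer_singleton_iff]
    exact hg.eq
  · convert hgA using 1
    group

/-- A member stabilising the component is in it. -/
theorem Frame.stab_member (Γ : Graph D) (F : Frame D d A) (K : Cent D d) {x : G} (hx : x ∈ D) (hxs : x ∈ stab Γ d) :
    Reach D d x := by
  obtain ⟨g, hg, hgA⟩ := F.into Γ K (Γ.sq x hx) hxs
  have h1 := Γ.stab_reach ((stab Γ d).inv_mem (show g ∈ stab Γ d from hg)) (F.reach_pt hgA (Γ.conj g x hx))
  rwa [conj_inv_of_eq rfl] at h1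

/-- A member fixing a component is in it. -/
theorem Frame.self (Γ : Graph D) (F : Frame D d A) (K : Cent D d) {x y : G} (hx : x ∈ D) (hy : y ∈ D)
    (h : Reach D y (x * y * x⁻¹)) : Reach D x y := by
  obtain ⟨g, rfl⟩ := Γ.trans d F.base y hy
  have h1 : g⁻¹ * x * g ∈ stab Γ d := by
    show Reach D d _
    have h2 := Γ.reach_conj g⁻¹ h
    rw [conj_inv_of_eq rfl] at h2
    convert h2 using 1
    group
  have h3 := Γ.reach_conj g (F.stab_member Γ K (by simpa using Γ.conj g⁻¹ x hx) h1)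
  rw [show g * (g⁻¹ * x * g) * g⁻¹ = x by group] at h3
  exact h3.symm

/-- The centraliser of a pair of the frame stabilises the component. -/
theorem Frame.pair_centralizer (Γ : Graph D) (F : Frame D d A) (K : Cent D d) {a b : G} (haA : a ∈ A) (hbA : b ∈ A)
    (ha : a ∈ D) (hb : b ∈ D) (hab : a ≠ b) {g : G} (hg : Commute g (a * b)) : g ∈ stab Γ d := by
  classical
  have hnb : b ∈ nb D a := ⟨hb, hab.symm, F.comm a haA b hbA⟩
  obtain ⟨t, ht⟩ : ∃ t, t = a * b := ⟨_, rfl⟩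
  rw [← ht] at hg
  have htA : t ∈ A := ht ▸ mul_mem haA hbA
  have ht2 : t * t = 1 := F.sq t htA
  have hti : t⁻¹ = t := inv_eq_of_mul_eq_one_right ht2
  have hai : a⁻¹ = a := inv_eq_of_mul_eq_one_right (Γ.sq a ha)
  have hat : a * t = b := by rw [ht, ← mul_assoc, Γ.sq a ha, one_mul]
  obtain ⟨M, hM⟩ : ∃ M : Subgroup G, M = Subgroup.centralizer ({t} : Set G) := ⟨_, rfl⟩
  have hMm : ∀ {x}, x ∈ M ↔ Commute x t := fun {x} => by
    rw [hM, Subgroup.mem_centralizer_singleton_iff]; exact Iff.rfl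
  have hAM : ∀ x ∈ A, x ∈ M := fun x hx => hMm.2 (F.comm x hx t htA)
  obtain ⟨t', ht'⟩ : ∃ t' : ↥M, t' = ⟨t, hAM t htA⟩ := ⟨_, rfl⟩
  haveI hZn : (Subgroup.zpowers t').Normal := by
    constructor
    intro n hn x
    obtain ⟨i, rfl⟩ := Subgroup.mem_zpowers_iff.1 hn
    have hc : Commute x t' := ht' ▸ Subtype.ext (hMm.1 x.2).eq
    rw [(hc.zpow_right i).eq, mul_inv_cancel_right]
    exact hn
  obtain ⟨π, hπd⟩ : ∃ π : ↥M →* ↥M ⧸ Subgroup.zpowers t', π = QuotientGroup.mk' _ := ⟨_, rfl⟩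
  have hπs : Function.Surjective π := hπd ▸ QuotientGroup.mk'_surjective _
  have hπ : ∀ x y : ↥M, π x = π y → (y : G) = x ∨ (y : G) = x * t := fun x y he => by
    rw [hπd, QuotientGroup.mk'_eq_mk'] at he
    obtain ⟨z, hz, rfl⟩ := he
    obtain ⟨i, rfl⟩ := Subgroup.mem_zpowers_iff.1 hz
    subst ht'
    have h2j : ∀ j : ℤ, (t : G) ^ (2 * j) = 1 := fun j => by rw [zpow_mul, zpow_two, ht2, one_zpow]
    rcases Int.even_or_odd' i with ⟨j, rfl | rfl⟩
    · left
      rw [Subgroup.coe_mul, Subgroup.coe_zpow, h2j, mul_one]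
    · right
      rw [Subgroup.coe_mul, Subgroup.coe_zpow, zpow_add, h2j, one_mul, zpow_one]
  have hπt : π t' = 1 := by
    rw [hπd, QuotientGroup.mk'_apply, QuotientGroup.eq_one_iff]; exact Subgroup.mem_zpowers _
  obtain ⟨a', ha'⟩ : ∃ a' : ↥M, a' = ⟨a, hAM a haA⟩ := ⟨_, rfl⟩
  have haa : (a' : G) = a := by rw [ha']
  have hzt : ∀ (z : G) (x : ↥M), z ∈ A → z ∈ D → ((x : G) * z * (x : G)⁻¹ = z ∨ (x : G) * z * (x : G)⁻¹ = z * t) →
      (x : G) ∈ stab Γ d := by
    intro z x hzA hz hc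
    refine mem_stab_of (F.reach_pt hzA hz) ((F.reach_pt hzA hz).trans
      (reach_commute hz (Γ.conj _ z hz) ?_))
    rcases hc with r | r <;> rw [r]
    exact (Commute.refl z).mul_right (F.comm z hzA t htA)
  have hiso : IsIsolatedInvolution (π a') := by
    haveI := Fact.mk Nat.prime_two
    refine ⟨orderOf_eq_prime (by rw [← map_pow, show a' ^ 2 = 1 from Subtype.ext (by
      rw [Subgroup.coe_pow, haa, pow_two, Γ.sq a ha]; rfl), map_one]) fun h1 => ?_, ?_⟩
    · rcases hπ 1 a' (by rw [map_one, h1]) with r | r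
      · rw [haa, Subgroup.coe_one] at r; exact Γ.one (r ▸ ha)
      · rw [haa, Subgroup.coe_one, one_mul] at r
        refine Γ.not_two ha hnb ?_
        rw [← ht, ← r]; exact ha
    · intro q hq
      obtain ⟨x, rfl⟩ := hπs q
      rw [← map_inv, ← map_mul, ← map_mul] at hq ⊢
      obtain ⟨y, hy⟩ : ∃ y : G, y = (x : G) * a * (x : G)⁻¹ := ⟨_, rfl⟩
      have hyc : ((x * a' * x⁻¹ : ↥M) : G) = y := by rw [hy, ← haa]; rfl
      have hyD : y ∈ D := hy ▸ Γ.conj _ a ha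
      have hxt : (x : G) * t * (x : G)⁻¹ = t := mul_inv_eq_iff_eq_mul.2 (hMm.1 x.2).eq
      have hyt : y * t = (x : G) * b * (x : G)⁻¹ := by
        conv_lhs => rw [hy, ← hxt]
        rw [← hat]; group
      have hytD : y * t ∈ D := hyt ▸ Γ.conj _ b hb
      have hyM : Commute y t := hMm.1 (hyc ▸ (x * a' * x⁻¹).2)
      have hynb : y * t ∈ nb D y := ⟨hytD, fun e => by
        rw [mul_eq_left, ht, mul_eq_one_iff_eq_inv, inv_eq_of_mul_eq_one_right (Γ.sq b hb)] at e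
        exact hab e, (Commute.refl y).mul_right hyM⟩
      have hfin : Reach D a y → π (x * a' * x⁻¹) = π a' := fun hr => by
        rcases Γ.pair_local ha hnb hyD hynb hr (by rw [← mul_assoc, Γ.sq y hyD, one_mul, ht]) with ⟨r, -⟩ | ⟨r, -⟩
        · exact congrArg π (Subtype.ext (by rw [hyc, r, haa]))
        · rw [← mul_one (π a'), ← hπt, ← map_mul]
          exact congrArg π (Subtype.ext (by rw [hyc, r, Subgroup.coe_mul, haa, ht', hat]))
      have h2 : π (a' * (x * a' * x⁻¹)) = π (x * a' * x⁻¹ * a') := by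
        rw [map_mul π a', map_mul π (x * a' * x⁻¹) a']; exact hq.eq
      rcases hπ _ _ h2 with r | r <;>
        rw [Subgroup.coe_mul (x := x * a' * x⁻¹) (y := a'), Subgroup.coe_mul (x := a') (y := x * a' * x⁻¹), haa, hyc] at r
      · exact hfin (reach_commute ha hyD r.symm)
      · refine hfin (F.self Γ K ha hyD ?_)
        have h3 : a * y * a⁻¹ = y * t := by
          rw [hai]
          have h4 : a * y = y * a * t := by rw [r, mul_assoc, ht2, mul_one]
          rw [h4, mul_assoc, ← (F.comm a haA t htA).eq, ← mul_assoc, mul_assoc y a a, Γ.sq a ha, mul_one]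
        rw [h3]
        exact reach_nb hyD hynb
  obtain ⟨H, hH⟩ : ∃ H, H = ((stab Γ d).subgroupOf M).map π := ⟨_, rfl⟩
  obtain ⟨AQ, hAQ⟩ : ∃ AQ, AQ = (A.subgroupOf M).map π := ⟨_, rfl⟩
  have hAst : A ≤ stab Γ d := fun x hx => by
    refine mem_stab_of Relation.ReflTransGen.refl ?_
    rw [mul_inv_eq_iff_eq_mul.2 (F.comm x hx d F.mem).eq]
    exact Relation.ReflTransGen.refl
  have hA2 : IsPGroup 2 AQ := hAQ ▸ IsPGroup.map (fun x => ⟨1, Subtype.ext (Subtype.ext (by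
    simp only [pow_one, pow_two, Subgroup.coe_one]
    exact F.sq _ x.2))⟩) π
  obtain ⟨T, hT, hlen, hprod⟩ := F.rel
  obtain ⟨T', hT'⟩ : ∃ T' : List ↥M, T' = T.attach.map fun z => (⟨z.1, hAM z.1 (hT z.1 z.2).1⟩ : ↥M) := ⟨_, rfl⟩
  have hT'm : ∀ x ∈ T', (x : G) ∈ A ∧ (x : G) ∈ D := fun x hx => by
    rw [hT'] at hx
    obtain ⟨z, -, rfl⟩ := List.mem_map.1 hx
    exact hT z.1 z.2
  have hW : oddCore (↥M ⧸ Subgroup.zpowers t') ≤ H := by
    refine le_of_odd_relation hA2 (CfsgLib.Base.odd_card_oddCore _) ?_ (hAQ ▸ hH ▸ Subgroup.map_mono fun x hx => hAst hx)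
      (T := T'.map π) ?_ ?_ ?_ ?_ ?_
    · rw [Subgroup.normalizer_eq_top]; exact le_top
    · intro z hz
      obtain ⟨x, hx, rfl⟩ := List.mem_map.1 hz
      exact hAQ ▸ Subgroup.mem_map_of_mem π (hT'm x hx).1
    · intro z hz
      obtain ⟨x, hx, rfl⟩ := List.mem_map.1 hz
      rw [← map_mul, show x * x = 1 from Subtype.ext (Γ.sq _ (hT'm x hx).2), map_one]
    · rw [List.length_map, hT', List.length_map, List.length_attach]; exact hlen
    · rw [← map_list_prod, show T'.prod = 1 from Subtype.ext (by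
        rw [Subgroup.val_list_prod, hT', List.map_map]
        exact (congrArg List.prod T.attach_map_subtype_val).trans hprod), map_one]
    · intro z hz x _ hc
      obtain ⟨z', hz', rfl⟩ := List.mem_map.1 hz
      obtain ⟨x', rfl⟩ := hπs x
      refine hH ▸ Subgroup.mem_map_of_mem π (hzt (z' : G) x' (hT'm z' hz').1 (hT'm z' hz').2 ?_)
      have h3 : π z' = π (x' * z' * x'⁻¹) := by
        rw [map_mul, map_mul, map_inv, eq_mul_inv_iff_mul_eq]; exact hc.eq
      exact hπ _ _ h3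
  have hgM : g ∈ M := hMm.2 hg
  obtain ⟨w, hw, c, hc, he⟩ := ZStar.exists_mul_centralizer hiso (π ⟨g, hgM⟩)
  obtain ⟨c', rfl⟩ := hπs c
  have hcH : π c' ∈ H := by
    refine hH ▸ Subgroup.mem_map_of_mem π (hzt a c' haA ha ?_)
    have h3 : π a' = π (c' * a' * c'⁻¹) := by
      rw [map_mul, map_mul, map_inv, eq_mul_inv_iff_mul_eq]
      exact (Subgroup.mem_centralizer_singleton_iff.1 hc).symm
    rcases hπ _ _ h3 with r | r <;> rw [Subgroup.coe_mul, Subgroup.coe_mul, haa] at r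
    · exact Or.inl r
    · exact Or.inr r
  have hgH : π ⟨g, hgM⟩ ∈ H := he ▸ mul_mem (hW hw) hcH
  rw [hH] at hgH
  obtain ⟨g', hg', hge⟩ := hgH
  have hts : t ∈ stab Γ d := hAst htA
  rcases hπ g' ⟨g, hgM⟩ hge with r | r
  · exact (show g = (g' : G) from r) ▸ hg'
  · exact (show g = (g' : G) * t from r) ▸ mul_mem hg' hts

omit [Finite G] in
/-- Commuting pairs form one orbit. -/
theorem Graph.pair_trans (Γ : Graph D) {a b p q : G} (ha : a ∈ D) (hb : b ∈ nb D a) (hp : p ∈ D)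
    (hq : q ∈ nb D p) : ∃ g : G, g * a * g⁻¹ = p ∧ g * b * g⁻¹ = q := by
  obtain ⟨g, rfl⟩ := Γ.trans a ha p hp
  obtain ⟨n, h1, h2⟩ := (Γ.loc _ hp).move (g * b * g⁻¹) ((nb_conj_mem Γ.conj g).2 hb) q hq
  refine ⟨n * g, ?_, ?_⟩
  · rw [show n * g * a * (n * g)⁻¹ = n * (g * a * g⁻¹) * n⁻¹ by group, h1]
  · rw [← h2]; group

/-- A product of two commuting members determines them. -/
theorem Frame.pair_unique (Γ : Graph D) (F : Frame D d A) (K : Cent D d) {a b p q : G} (ha : a ∈ D) (hb : b ∈ nb D a)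
    (hp : p ∈ D) (hq : q ∈ nb D p) (he : a * b = p * q) : p = a ∧ q = b ∨ p = b ∧ q = a := by
  obtain ⟨b₀, hb₀A, hb₀, hne⟩ := F.second
  have hnb₀ : b₀ ∈ nb D d := ⟨hb₀, hne, F.comm d F.mem b₀ hb₀A⟩
  obtain ⟨g, hga, hgb⟩ := Γ.pair_trans F.base hnb₀ ha hb
  obtain ⟨g₂, h2p, h2q⟩ := Γ.pair_trans F.base hnb₀ hp hq
  refine Γ.pair_local ha hb hp hq ?_ he
  have hc : Commute (g⁻¹ * g₂) (d * b₀) := by
    refine mul_inv_eq_iff_eq_mul.1 ?_
    rw [show g⁻¹ * g₂ * (d * b₀) * (g⁻¹ * g₂)⁻¹ = g⁻¹ * (g₂ * d * g₂⁻¹ * (g₂ * b₀ * g₂⁻¹)) * g by group, h2p, h2q, ← he,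
      ← hga, ← hgb]
    group
  have h1 : Reach D d (g⁻¹ * g₂ * d * (g⁻¹ * g₂)⁻¹) := F.pair_centralizer Γ K F.mem hb₀A F.base hb₀ hne.symm hc
  have h3 := Γ.reach_conj g h1
  rw [hga, show g * (g⁻¹ * g₂ * d * (g⁻¹ * g₂)⁻¹) * g⁻¹ = g₂ * d * g₂⁻¹ by group, h2p] at h3
  exact h3

/-- An element centralising a pair permutes it. -/
theorem Frame.perm_pair (Γ : Graph D) (F : Frame D d A) (K : Cent D d) {a b g : G} (ha : a ∈ D) (hb : b ∈ nb D a)
    (hg : Commute g (a * b)) :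
    g * a * g⁻¹ = a ∧ g * b * g⁻¹ = b ∨ g * a * g⁻¹ = b ∧ g * b * g⁻¹ = a :=
  F.pair_unique Γ K ha hb (Γ.conj g a ha) ((nb_conj_mem Γ.conj g).2 hb) (by
    rw [show g * a * g⁻¹ * (g * b * g⁻¹) = g * (a * b) * g⁻¹ by group, hg.eq, mul_inv_cancel_right])

/-- Members centralising an involution lie in one component or give conjugate products with it. -/
theorem Frame.dichotomy (Γ : Graph D) (F : Frame D d A) (K : Cent D d) {u x y : G} (hx : x ∈ D) (hy : y ∈ D)
    (hux : Commute u x) (huy : Commute u y) : Reach D y x ∨ IsConj (u * y) (u * x) := by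
  rcases dihedral (Γ.sq x hx) (Γ.sq y hy) with ⟨c, hc, hcy⟩ | ⟨w, hw1, hw2, hwx, hwy, -, hcon⟩
  · refine Or.inr (isConj_iff.2 ⟨c, ?_⟩)
    rw [← hcy, show c * (u * y) * c⁻¹ = c * u * c⁻¹ * (c * y * c⁻¹) by group,
      mul_inv_eq_iff_eq_mul.2 (hc u hux huy).symm.eq]
  left
  have hD : ∀ {a b}, a ∈ D → IsConj a b → b ∈ D := fun {a b} ha hc => by
    obtain ⟨g, rfl⟩ := isConj_iff.1 hc; exact Γ.conj g a ha
  obtain ⟨hwyD, hwxD⟩ : w * y ∈ D ∧ w * x ∈ D := by
    rcases hcon with ⟨h1, h2⟩ | ⟨h1, h2⟩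
    exacts [⟨hD hy h1, hD hx h2⟩, ⟨hD hx h1, hD hy h2⟩]
  have hny : w * y ∈ nb D y := ⟨hwyD, fun e => hw1 (mul_eq_right.1 e), hwy.symm.mul_right (Commute.refl y)⟩
  have hnx : w * x ∈ nb D x := ⟨hwxD, fun e => hw1 (mul_eq_right.1 e), hwx.symm.mul_right (Commute.refl x)⟩
  have e : ∀ {z}, z ∈ D → Commute w z → z * (w * z) = w := fun {z} hz hc => by
    rw [hc.eq, ← mul_assoc, Γ.sq z hz, one_mul]
  rcases F.pair_unique Γ K hy hny hx hnx ((e hy hwy).trans (e hx hwx).symm) with ⟨r, -⟩ | ⟨r, -⟩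
  · rw [r]; exact Relation.ReflTransGen.refl
  · rw [r]; exact reach_nb hy hny

omit [Finite G] in
/-- A member commuting with the frame's points lies in the frame. -/
theorem Frame.mem_of_commute (_Γ : Graph D) (F : Frame D d A) {p : G} (hp : p ∈ D)
    (h : ∀ z ∈ A, z ∈ D → Commute z p) : p ∈ A := by
  refine F.maxi p hp fun x hx => ?_
  rcases eq_or_ne x 1 with rfl | hne
  · exact Commute.one_left p
  rcases F.types x hx hne with r | ⟨a, haA, b, hbA, ha, hb, -, rfl⟩ | ⟨a, haA, b, hbA, c, hcA, ha, hb, hc, -, -, -, rfl⟩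
  · exact h x hx r
  · exact (h a haA ha).mul_left (h b hbA hb)
  · exact ((h a haA ha).mul_left (h b hbA hb)).mul_left (h c hcA hc)

/-- A point outside the decompositions of a triple. -/
theorem Frame.outside_any (Γ : Graph D) (F : Frame D d A) (K : Cent D d) {a b c : G} (haA : a ∈ A) (hbA : b ∈ A)
    (hcA : c ∈ A) (ha : a ∈ D) (hb : b ∈ D) (hc : c ∈ D) (hab : a ≠ b) (hac : a ≠ c) (hbc : b ≠ c) :
    ∃ y ∈ A, y ∈ D ∧ ∀ p ∈ D, ∀ q ∈ nb D p, a * b * c * y ≠ p * q := by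
  obtain ⟨y, hyA, hy, hout⟩ := F.outside a haA b hbA c hcA ha hb hc hab hac hbc
  refine ⟨y, hyA, hy, fun p hp q hq he => ?_⟩
  have hall : ∀ z ∈ A, z ∈ D → Commute z p ∧ Commute z q := by
    intro z hzA hz
    have hcz : Commute z (p * q) := he ▸ F.comm z hzA _ (mul_mem (mul_mem (mul_mem haA hbA) hcA) hyA)
    rcases F.perm_pair Γ K hp hq hcz with ⟨r, r'⟩ | ⟨r, -⟩
    · exact ⟨mul_inv_eq_iff_eq_mul.1 r, mul_inv_eq_iff_eq_mul.1 r'⟩
    · exfalso
      have hR : Reach D z p := F.self Γ K hz hp (by rw [r]; exact reach_nb hp hq)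
      have hzi : z⁻¹ = z := inv_eq_of_mul_eq_one_right (Γ.sq z hz)
      by_cases hzp : Commute z p
      · rw [hzp.eq, mul_inv_cancel_right] at r
        exact hq.2.1 r.symm
      rw [hzi, Γ.braid hz hR hzp] at r
      have h2 : Commute p (p * z * p) := r ▸ hq.2.2
      refine hzp (show z * p = p * z from ?_)
      calc z * p = p * (p * (z * p)) := by rw [← mul_assoc, Γ.sq p hp, one_mul]
        _ = p * (p * z * p) := by group
        _ = p * z * p * p := h2.eq
        _ = p * z := by rw [mul_assoc, Γ.sq p hp, mul_one]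
  exact hout p (F.mem_of_commute Γ hp fun z hz hzD => (hall z hz hzD).1) q
    (F.mem_of_commute Γ hq.1 fun z hz hzD => (hall z hz hzD).2) hp hq.1 hq.2.1.symm he

/-- The kinds of involutions stabilising the component. -/
theorem Frame.kinds (Γ : Graph D) (F : Frame D d A) (K : Cent D d) {u : G} (hu : u * u = 1) (hu1 : u ≠ 1)
    (hus : u ∈ stab Γ d) :
    (u ∈ D ∧ Reach D d u) ∨ (∃ p, p ∈ D ∧ Reach D d p ∧ ∃ q ∈ nb D p, u = p * q) ∨
      ∃ p, p ∈ D ∧ Reach D d p ∧ Commute u p ∧ (∃ q, q ∈ D ∧ ∃ r ∈ nb D q, u * p = q * r) ∧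
        ∃ y, y ∈ D ∧ Reach D d y ∧ Commute u y ∧ ∀ p ∈ D, ∀ q ∈ nb D p, u * y ≠ p * q := by
  obtain ⟨g, hg, hgA⟩ := F.into Γ K hu hus
  obtain ⟨f, hf⟩ : ∃ f : G → G, ∀ z, f z = g⁻¹ * z * g := ⟨_, fun _ => rfl⟩
  have hfR : ∀ {z}, z ∈ A → z ∈ D → f z ∈ D ∧ Reach D d (f z) := fun {z} hz hzD => by
    have h1 := Γ.stab_reach ((stab Γ d).inv_mem (show g ∈ stab Γ d from hg)) (F.reach_pt hz hzD)
    rw [hf, show g⁻¹ * z * g = g⁻¹ * z * g⁻¹⁻¹ by group]
    exact ⟨Γ.conj g⁻¹ z hzD, h1⟩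
  have hfu : u = f (g * u * g⁻¹) := by rw [hf]; group
  have hfm : ∀ z w, f (z * w) = f z * f w := fun z w => by simp only [hf]; group
  have hfc : ∀ {z w}, Commute z w → Commute (f z) (f w) := fun {z w} hzw => by
    show f z * f w = f w * f z
    rw [← hfm, hzw.eq, hfm]
  have hfn : ∀ {z w}, z ∈ A → w ∈ A → w ∈ D → z ≠ w → f w ∈ nb D (f z) := fun {z w} hz hw hwD hne =>
    ⟨(hfR hw hwD).1, fun e => hne (by rw [hf, hf] at e; exact (mul_left_cancel (mul_right_cancel e)).symm),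
      hfc (F.comm z hz w hw)⟩
  obtain ⟨u', hu'⟩ : ∃ u', u' = g * u * g⁻¹ := ⟨_, rfl⟩
  rw [← hu'] at hgA hfu
  have hne : u' ≠ 1 := fun e => hu1 (by rw [hfu, e, hf]; group)
  rcases F.types u' hgA hne with r | ⟨a, haA, b, hbA, ha, hb, hab, rfl⟩ |
    ⟨a, haA, b, hbA, c, hcA, ha, hb, hc, hab, hac, hbc, rfl⟩
  · exact Or.inl (hfu ▸ hfR hgA r)
  · exact Or.inr (Or.inl ⟨f a, (hfR haA ha).1, (hfR haA ha).2, f b, hfn haA hbA hb hab, hfu.trans (hfm a b)⟩)
  · refine Or.inr (Or.inr ⟨f a, (hfR haA ha).1, (hfR haA ha).2, ?_, ?_, ?_⟩)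
    · rw [hfu]; exact hfc (F.comm _ hgA a haA)
    · refine ⟨f b, (hfR hbA hb).1, f c, hfn hbA hcA hc hbc, ?_⟩
      rw [hfu, ← hfm, ← hfm]
      congr 1
      rw [(F.comm (a * b * c) hgA a haA).eq, ← mul_assoc, ← mul_assoc, Γ.sq a ha, one_mul]
    · obtain ⟨y, hyA, hy, hout⟩ := F.outside_any Γ K haA hbA hcA ha hb hc hab hac hbc
      refine ⟨f y, (hfR hyA hy).1, (hfR hyA hy).2, hfu ▸ hfc (F.comm _ hgA y hyA), fun p hp q hq he => ?_⟩
      refine hout (g * p * g⁻¹) (Γ.conj g p hp) (g * q * g⁻¹) ((nb_conj_mem Γ.conj g).2 hq) ?_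
      rw [hfu, ← hfm, hf] at he
      rw [show g * p * g⁻¹ * (g * q * g⁻¹) = g * (p * q) * g⁻¹ by group, ← he]
      group

/-- The commuting graph is connected. -/
theorem Frame.connected (Γ : Graph D) (F : Frame D d A) (K : Cent D d) {x : G} (hx : x ∈ D) : Reach D d x := by
  obtain ⟨b, hbA, hb, hne⟩ := F.second
  have hnb : b ∈ nb D d := ⟨hb, hne, F.comm d F.mem b hbA⟩
  obtain ⟨t, ht⟩ : ∃ t, t = d * b := ⟨_, rfl⟩
  have htD : t ∉ D := ht ▸ Γ.not_two F.base hnb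
  have hD : ∀ {a b}, a ∈ D → IsConj a b → b ∈ D := fun {a b} ha hc => by
    obtain ⟨g, rfl⟩ := isConj_iff.1 hc; exact Γ.conj g a ha
  rcases dihedral (F.sq t (ht ▸ mul_mem F.mem hbA)) (Γ.sq x hx) with ⟨c, -, hc⟩ | ⟨u, hu1, hu2, hut, hux, -, hcon⟩
  · exact absurd (hc ▸ Γ.conj c x hx) htD
  have hus : u ∈ stab Γ d := by
    refine mem_stab_of Relation.ReflTransGen.refl ?_
    rw [ht] at hut
    rcases F.perm_pair Γ K F.base hnb hut with ⟨r, -⟩ | ⟨r, -⟩ <;> rw [r]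
    · exact Relation.ReflTransGen.refl
    · exact reach_nb F.base hnb
  rcases F.kinds Γ K hu2 hu1 hus with ⟨huD, hR⟩ | ⟨p, hp, hR, q, hq, hpq⟩ |
    ⟨p, hp, hR, hup, ⟨q, hq, r, hr, hqr⟩, y, hy, hyR, huy, hout⟩
  · exact hR.trans (reach_commute huD hx hux)
  · rcases hcon with ⟨h1, -⟩ | ⟨h1, -⟩
    · -- a second pair
      have hn : u * x ∈ nb D x := ⟨hD hx h1, fun e => hu1 (mul_eq_right.1 e), hux.symm.mul_right (Commute.refl x)⟩
      rcases F.pair_unique Γ K hp hq hx hn (by rw [← hpq, hux.eq, ← mul_assoc, Γ.sq x hx, one_mul]) with ⟨r, -⟩ | ⟨r, -⟩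
      · exact r ▸ hR
      · exact r ▸ hR.trans (reach_nb hp hq)
    · have hup : Commute u p := by rw [hpq]; exact (Commute.refl p).mul_left hq.2.2.symm
      rcases F.dichotomy Γ K hx hp hux hup with r | hc
      · exact hR.trans r
      · exfalso
        have e : u * p = q := by rw [hup.eq, hpq, ← mul_assoc, Γ.sq p hp, one_mul]
        rw [e] at hc
        exact htD (hD hq.1 (hc.trans h1.symm))
  · rcases hcon with ⟨h1, -⟩ | ⟨h1, -⟩
    · rcases F.dichotomy Γ K hx hp hux hup with s | hc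
      · exact hR.trans s
      · exfalso
        rw [hqr] at hc
        exact Γ.not_two hq hr (hD (hD hx h1) hc.symm)
    · rcases F.dichotomy Γ K hx hy hux huy with s | hc
      · exact hyR.trans s
      · exfalso
        obtain ⟨g, hg⟩ := isConj_iff.1 (h1.trans hc.symm)
        refine hout (g * d * g⁻¹) (Γ.conj g d F.base) (g * b * g⁻¹) ((nb_conj_mem Γ.conj g).2 hnb) ?_
        rw [← hg, ht]; group

/-- The members are three-transpositions. -/
theorem Frame.ts (Γ : Graph D) (F : Frame D d A) (K : Cent D d) : IsThreeTranspositionSet D := by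
  haveI := Fact.mk Nat.prime_two
  refine ⟨fun x hx => orderOf_eq_prime (by rw [pow_two, Γ.sq x hx]) fun e => Γ.one (e ▸ hx), fun x hx y hy => ?_⟩
  by_cases hc : Commute x y
  · left; rw [hc.mul_pow, pow_two, pow_two, Γ.sq x hx, Γ.sq y hy, one_mul]
  · right
    have hb := Γ.braid hx ((F.connected Γ K hx).symm.trans (F.connected Γ K hy)) hc
    calc (x * y) ^ 3 = x * y * x * (y * x * y) := by simp only [pow_succ, pow_zero, one_mul, mul_assoc]
      _ = y * x * (y * (y * x * y)) := by rw [hb]; simp only [mul_assoc]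
      _ = 1 := by
        rw [← mul_assoc y (y * x) y, ← mul_assoc y y x, Γ.sq y hy, one_mul, ← mul_assoc, mul_assoc y x x,
          Γ.sq x hx, mul_one, Γ.sq y hy]

/-- All conjugates of the involution are in one component. -/
theorem connected {d : G} {A : Subgroup G} (Γ : Graph (conjugatesOf d)) (F : Frame (conjugatesOf d) d A)
    (K : Cent (conjugatesOf d) d) : ∀ x ∈ conjugatesOf d, Reach (conjugatesOf d) d x :=
  fun _ hx => F.connected Γ K hx

/-- The conjugates are three-transpositions. -/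
theorem ts {d : G} {A : Subgroup G} (Γ : Graph (conjugatesOf d)) (F : Frame (conjugatesOf d) d A)
    (K : Cent (conjugatesOf d) d) : IsThreeTranspositionSet (conjugatesOf d) :=
  F.ts Γ K

end CfsgLib.KnownB.TypeUSix
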