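import Cfsg.Agent.Lib.KnownB.TypeUSix.Defs
import Cfsg.Agent.Lib.KnownB.TypeCentral.Graph

/-!
In a component of the commuting graph two members commute or have forty-five common neighbours; the
components have 693 members and non-commuting members of a component braid.
-/

set_option autoImplicit false
set_option linter.unusedSectionVars false

namespace CfsgLib.KnownB.TypeUSix

open Cfsg CfsgLib.ThreeTransp
open CfsgLib.KnownB.TypeCentral (Reach nb_swap reach_nb reach_commute nb_conj_mem nb_image)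

universe u

variable {G : Type u} [Group G] [Finite G] {D : Set G}

theorem conjCancel {g x y : G} : g * x * g⁻¹ = g * y * g⁻¹ ↔ x = y :=
  ⟨fun h => mul_left_cancel (mul_right_cancel h), fun h => by rw [h]⟩

/-- A triple on a line moves along conjugation. -/
theorem twin_conj (hD : ∀ g : G, ∀ x ∈ D, g * x * g⁻¹ ∈ D) (g : G) {z x y : G} :
    Twin D (g * z * g⁻¹) (g * x * g⁻¹) (g * y * g⁻¹) ↔ Twin D z x y := by
  unfold Twin
  rw [nb_conj_mem hD, nb_conj_mem hD, nb_image hD, Set.forall_mem_image]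
  simp only [commute_conj_iff, ne_eq, conjCancel]

/-- The local data move along conjugation. -/
theorem Local.conj {e : G} (L : Local D e) (hD : ∀ g : G, ∀ x ∈ D, g * x * g⁻¹ ∈ D) (g : G) :
    Local D (g * e * g⁻¹) := by
  classical
  have hinj : Function.Injective fun y : G => g * y * g⁻¹ := fun a b h => conjCancel.1 h
  have hsurj : ∀ y : G, g * (g⁻¹ * y * g) * g⁻¹ = y := fun y => by group
  have hnb : ∀ x, nb D (g * x * g⁻¹) = (fun y => g * y * g⁻¹) '' nb D x := fun x => nb_image hD g x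
  have htw : ∀ x y, Twin D (g * e * g⁻¹) (g * x * g⁻¹) y ↔ ∃ y', Twin D e x y' ∧ g * y' * g⁻¹ = y := fun x y =>
    ⟨fun h => ⟨g⁻¹ * y * g, (twin_conj hD g).1 (by rwa [hsurj]), hsurj y⟩,
      fun ⟨y', h, hy⟩ => hy ▸ (twin_conj hD g).2 h⟩
  refine ⟨?_, ?_, ?_, ?_, ?_, ?_, ?_, ?_, ?_⟩
  · simp only [hnb, Set.forall_mem_image]
    intro x hx y hy hn
    have h1 := L.three x hx y hy fun h => hn ((commute_conj_iff g).2 h)
    calc g * x * g⁻¹ * (g * y * g⁻¹) * (g * x * g⁻¹) = g * (x * y * x) * g⁻¹ := by group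
      _ = g * (y * x * y) * g⁻¹ := by rw [h1]
      _ = _ := by group
  · simp only [hnb, Set.forall_mem_image]
    intro x hx y hy
    obtain ⟨n, h1, h2⟩ := L.move x hx y hy
    refine ⟨g * n * g⁻¹, ?_, ?_⟩
    · rw [show g * n * g⁻¹ * (g * e * g⁻¹) * (g * n * g⁻¹)⁻¹ = g * (n * e * n⁻¹) * g⁻¹ by group, h1]
    · rw [show g * n * g⁻¹ * (g * x * g⁻¹) * (g * n * g⁻¹)⁻¹ = g * (n * x * n⁻¹) * g⁻¹ by group, h2]
  · rw [hnb, Set.ncard_image_of_injective _ hinj, L.card]
  · simp only [hnb, Set.forall_mem_image]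
    intro x hx
    rw [← Set.image_inter hinj, Set.ncard_image_of_injective _ hinj, L.deg x hx]
  · intro x y h
    rw [← hsurj x, ← hsurj y] at h ⊢
    exact (twin_conj hD g).2 (L.twin_symm _ _ ((twin_conj hD g).1 h))
  · simp only [hnb, Set.forall_mem_image]
    intro x hx
    rw [show {y | Twin D (g * e * g⁻¹) (g * x * g⁻¹) y} = (fun y => g * y * g⁻¹) '' {y | Twin D e x y} from
      Set.ext fun y => htw x y, Set.ncard_image_of_injective _ hinj, L.twin_card x hx]
  · simp only [hnb, Set.forall_mem_image]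
    intro x hx y hy hn
    obtain ⟨p, hp, h1, h2⟩ := L.join x hx y hy fun h => hn ((commute_conj_iff g).2 h)
    exact ⟨_, Set.mem_image_of_mem _ hp, (commute_conj_iff g).2 h1, (commute_conj_iff g).2 h2⟩
  · simp only [hnb, Set.forall_mem_image]
    intro w hw P hP h1 h2 a ha hna
    obtain ⟨Q, hQ⟩ : ∃ Q : Finset G, Q = P.image fun y => g⁻¹ * y * g := ⟨_, rfl⟩
    have hQm : ∀ y, y ∈ Q → g * y * g⁻¹ ∈ P := fun y hy => by
      obtain ⟨q, hq, rfl⟩ := Finset.mem_image.1 (hQ ▸ hy)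
      rwa [hsurj]
    obtain ⟨p, hp, hc⟩ := L.meet w hw Q
      (by rw [hQ, Finset.card_image_of_injective _ fun a b h => mul_left_cancel (mul_right_cancel h), hP])
      (fun p hp => by
        obtain ⟨a1, a2, a3, a4⟩ := h1 _ (hQm p hp)
        obtain ⟨p', hp', he⟩ := a1
        exact ⟨(conjCancel.1 he) ▸ hp', (commute_conj_iff g).1 a2, fun e => a3 (e ▸ rfl),
          fun t => a4 ((twin_conj hD g).2 t)⟩)
      (fun p hp q hq hne => by
        obtain ⟨a1, a2⟩ := h2 _ (hQm p hp) _ (hQm q hq) fun e => hne (conjCancel.1 e)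
        exact ⟨(commute_conj_iff g).1 a1, fun t => a2 ((twin_conj hD g).2 t)⟩)
      a ha fun h => hna ((commute_conj_iff g).2 h)
    exact ⟨_, hQm p hp, (commute_conj_iff g).2 hc⟩
  · intro x y h
    rw [← hsurj x, ← hsurj y] at h ⊢
    intro hm
    refine L.four _ _ ((twin_conj hD g).1 h) ?_
    have h3 := hD g⁻¹ _ hm
    convert h3 using 1
    group

/-- The data at one member give the graph. -/
theorem graph_of_data {d : G} (h : Data d) : Graph (conjugatesOf d) := by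
  have hc : ∀ g : G, ∀ x ∈ conjugatesOf d, g * x * g⁻¹ ∈ conjugatesOf d := fun g x hx =>
    (show IsConj d x from hx).trans (isConj_iff.2 ⟨g, rfl⟩)
  have hd : d * d = 1 := by rw [← pow_two, ← h.ord]; exact pow_orderOf_eq_one d
  refine ⟨hc, fun x hx => ?_, fun h1 => ?_, fun a ha b hb =>
    isConj_iff.1 ((show IsConj d a from ha).symm.trans (show IsConj d b from hb)), fun e he => ?_⟩
  · obtain ⟨g, rfl⟩ := isConj_iff.1 (show IsConj d x from hx)
    rw [show g * d * g⁻¹ * (g * d * g⁻¹) = g * (d * d) * g⁻¹ by group, hd]; group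
  · have h2 := isConj_one_left.1 (show IsConj d 1 from h1)
    have h3 := h.ord
    rw [h2, orderOf_one] at h3
    omega
  · obtain ⟨g, rfl⟩ := isConj_iff.1 (show IsConj d e from he)
    exact h.loc.conj hc g

theorem Twin.rot {z x y : G} (hz : z ∈ D) (h : Twin D z x y) : Twin D x z y := by
  obtain ⟨hx, hy, hne, hc, hall⟩ := h
  refine ⟨nb_swap hz hx, ⟨hy.1, hne.symm, hc⟩, hy.2.1.symm, hy.2.2, fun p hp hpz => ?_⟩
  rcases eq_or_ne p z with rfl | hpne
  · exact hy.2.2
  · exact hall p ⟨hp.1, hpne, hpz.symm⟩ hp.2.2.symm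

theorem Graph.twin_symm (Γ : Graph D) {z x y : G} (hz : z ∈ D) (h : Twin D z x y) : Twin D z y x :=
  (Γ.loc z hz).twin_symm x y h

theorem Graph.twin_trans (Γ : Graph D) {z x y w : G} (hz : z ∈ D) (h1 : Twin D z x y) (h2 : Twin D z x w)
    (hne : y ≠ w) : Twin D z y w :=
  ⟨h1.2.1, h2.2.1, hne, h2.2.2.2.2 y h1.2.1 h1.2.2.2.1.symm,
    fun p hp hc => h2.2.2.2.2 p hp ((Γ.twin_symm hz h1).2.2.2.2 p hp hc)⟩

/-- A line through two commuting members meets the neighbours of a member next to one of them. -/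
theorem Graph.line_meet (Γ : Graph D) {a c x b : G} (ha : a ∈ D) (hc : c ∈ nb D a) (hx : x ∈ nb D a)
    (hxc : Commute x c) (hne : x ≠ c) (hnt : ¬ Twin D a x c) (hb : b ∈ nb D c) (hab : ¬ Commute a b) :
    ∃ y, (y = x ∨ Twin D a x y) ∧ Commute b y := by
  classical
  have hL := Γ.loc a ha
  obtain ⟨P, hP⟩ : ∃ P : Finset G, P = insert x (Set.toFinite {y | Twin D a x y}).toFinset := ⟨_, rfl⟩
  have hPm : ∀ {y}, y ∈ P ↔ y = x ∨ Twin D a x y := fun {y} => by
    rw [hP, Finset.mem_insert, Set.Finite.mem_toFinset]; exact Iff.rfl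
  have hcard : P.card = 4 := by
    rw [hP, Finset.card_insert_of_notMem fun h => ((Set.Finite.mem_toFinset _).1 h).2.2.1 rfl,
      ← Set.ncard_eq_toFinset_card _, hL.twin_card x hx]
  have hpair : ∀ {s t}, s ∈ P → t ∈ P → s ≠ t → Twin D a s t := fun {s t} hs ht hst => by
    rcases hPm.1 hs with rfl | hs <;> rcases hPm.1 ht with r | ht
    · exact absurd r.symm hst
    · exact ht
    · exact r ▸ Γ.twin_symm ha hs
    · exact Γ.twin_trans ha hs ht hst
  have hmem : ∀ {s}, s ∈ P → s ∈ nb D a ∧ Commute s c ∧ s ≠ c ∧ ¬ Twin D a s c := fun {s} hs => by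
    rcases hPm.1 hs with rfl | hs
    · exact ⟨hx, hxc, hne, hnt⟩
    · have hsc : s ≠ c := fun e => hnt (e ▸ hs)
      exact ⟨hs.2.1, (hs.2.2.2.2 c hc hxc.symm).symm, hsc, fun h =>
        hnt (Γ.twin_trans ha (Γ.twin_symm ha hs) h hne)⟩
  have hkey : ∀ {s}, s ∈ P → ¬ Twin D c a s := fun {s} hs h =>
    (hmem hs).2.2.2 (Γ.twin_symm ha (h.rot hc.1))
  obtain ⟨y, hy, hby⟩ := (Γ.loc c hc.1).meet a (nb_swap ha hc) P hcard
    (fun s hs => ⟨⟨(hmem hs).1.1, (hmem hs).2.2.1, (hmem hs).2.1.symm⟩, (hmem hs).1.2.2.symm, (hmem hs).1.2.1,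
      hkey hs⟩)
    (fun s hs t ht hst => ⟨(hpair hs ht hst).2.2.2.1, fun h => by
      have hsD := (hmem hs).1.1
      have h1 := Γ.twin_symm hsD ((hpair hs ht hst).rot ha)
      have h2 := Γ.twin_symm hsD (h.rot hc.1)
      exact hkey hs (Γ.twin_symm hc.1 ((Γ.twin_trans hsD h2 h1 hc.2.1).rot hsD))⟩)
    b hb (fun h => hab h.symm)
  exact ⟨y, hPm.1 hy, hby⟩

theorem Graph.close_step (Γ : Graph D) {a z w u : G} (ha : a ∈ D) (hz : z ∈ nb D a) (hw : w ∈ nb D z)
    (hu : u ∈ nb D w) (hzu : ¬ Commute z u) (hau : ¬ Commute a u) : ∃ c, c ∈ nb D a ∧ u ∈ nb D c := by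
  by_cases haw : Commute a w
  · exact ⟨w, ⟨hw.1, fun e => hau (e ▸ hu.2.2), haw⟩, hu⟩
  have hzw := nb_swap hz.1 hw
  obtain ⟨p, hp, hpz, hpu⟩ := (Γ.loc w hw.1).join z hzw u hu hzu
  have hpne : p ≠ z := fun e => hzu (e ▸ hpu)
  have hnt : ¬ Twin D w p z := fun h => hzu (h.2.2.2.2 u hu hpu.symm).symm
  obtain ⟨y, hy, hya⟩ := Γ.line_meet hw.1 hzw hp hpz hpne hnt (nb_swap ha hz) fun h => haw h.symm
  have hyu : Commute u y := by
    rcases hy with rfl | h
    exacts [hpu.symm, h.2.2.2.2 u hu hpu.symm]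
  have hyD : y ∈ D := by
    rcases hy with rfl | h
    exacts [hp.1, h.2.1.1]
  exact ⟨y, ⟨hyD, fun e => hau (e ▸ hyu.symm), hya⟩, hu.1, fun e => hau (e ▸ hya), hyu.symm⟩

theorem Graph.close (Γ : Graph D) {a b : G} (ha : a ∈ D) (h : Reach D a b) :
    Commute a b ∨ ∃ c, c ∈ nb D a ∧ b ∈ nb D c := by
  induction h with
  | refl => exact Or.inl (Commute.refl a)
  | @tail w u _ hs ih =>
    obtain ⟨hw, hu⟩ := hs
    by_cases hau : Commute a u
    · exact Or.inl hau
    right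
    rcases ih with hc | ⟨z, hz, hwz⟩
    · exact ⟨w, ⟨hw, fun e => hau (e ▸ hu.2.2), hc⟩, hu⟩
    by_cases hzu : Commute z u
    · exact ⟨z, hz, hu.1, fun e => hau (e ▸ hz.2.2), hzu⟩
    · exact Γ.close_step ha hz hwz hu hzu hau

/-- Non-commuting members of a component braid. -/
theorem Graph.braid (Γ : Graph D) {a b : G} (ha : a ∈ D) (h : Reach D a b) (hn : ¬ Commute a b) :
    a * b * a = b * a * b := by
  obtain ⟨c, hc, hb⟩ := (Γ.close ha h).resolve_left hn
  exact (Γ.loc c hc.1).three a (nb_swap ha hc) b hb hn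

theorem Graph.eq_of_commute_mul (Γ : Graph D) {x a b : G} (hx : x ∈ D) (hxa : Reach D x a)
    (hxb : Reach D x b) (hna : ¬ Commute x a) (hnb : ¬ Commute x b) (h : Commute x (a * b)) : a = b := by
  have h1 : x * (a * b) = a * b * x := h
  have h2 : a * x * a = b * x * b := by
    calc a * x * a = a * (x * (a * b)) * b := by
          rw [show a * (x * (a * b)) * b = a * x * a * (b * b) by group, Γ.sq b (hxb.mem hx), mul_one]
      _ = a * (a * b * x) * b := by rw [h1]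
      _ = b * x * b := by rw [← mul_assoc, ← mul_assoc a a, Γ.sq a (hxa.mem hx), one_mul]
  rw [← Γ.braid hx hxa hna, ← Γ.braid hx hxb hnb] at h2
  exact mul_left_cancel (mul_right_cancel h2)

theorem Graph.exists_noncomm (Γ : Graph D) {a b : G} (ha : a ∈ D) (hb : b ∈ nb D a) :
    ∃ y, y ∈ nb D a ∧ ¬ Commute y b := by
  by_contra hno
  push Not at hno
  have hsub : nb D a ⊆ insert b (nb D a ∩ nb D b) := fun y hy =>
    (eq_or_ne y b).imp id fun hne => ⟨hy, hy.1, hne, (hno y hy).symm⟩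
  have h1 := (Set.ncard_le_ncard hsub (Set.toFinite _)).trans (Set.ncard_insert_le _ _)
  rw [(Γ.loc a ha).card, (Γ.loc a ha).deg b hb] at h1
  omega

theorem Graph.not_two (Γ : Graph D) {a b : G} (ha : a ∈ D) (hb : b ∈ nb D a) : a * b ∉ D := by
  intro ht
  obtain ⟨y, hy, hyb⟩ := Γ.exists_noncomm ha hb
  have hyn : ¬ Commute y (a * b) := fun h1 => hyb (by
    have h2 := hy.2.2.symm.inv_right.mul_right h1
    rwa [inv_mul_cancel_left] at h2)
  have hct : Commute a (a * b) := (Commute.refl a).mul_right hb.2.2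
  have e : b * (a * b) = a := by rw [hb.2.2.eq, ← mul_assoc, Γ.sq b hb.1, one_mul]
  have hry : Reach D y a := (reach_nb ha hy).symm
  have h3 := Γ.eq_of_commute_mul hy.1 (hry.trans (reach_nb ha hb)) (hry.trans (reach_commute ha ht hct)) hyb hyn
    (e.symm ▸ hy.2.2.symm)
  exact Γ.one ((right_eq_mul.1 h3) ▸ ha)

/-- A product of two commuting members of a component determines them. -/
theorem Graph.pair_local (Γ : Graph D) {a b p q : G} (ha : a ∈ D) (hb : b ∈ nb D a) (hp : p ∈ D)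
    (hq : q ∈ nb D p) (hap : Reach D a p) (he : a * b = p * q) : p = a ∧ q = b ∨ p = b ∧ q = a := by
  have hbr := reach_nb ha hb
  have hqr := reach_nb hp hq
  have key : ∀ {x}, Reach D a x → Commute x (a * b) → Commute x p ∧ Commute x q := by
    intro x hx hxc
    rw [he] at hxc
    by_cases h1 : Commute x p
    · refine ⟨h1, ?_⟩
      have h2 := (Commute.inv_right h1).mul_right hxc
      rwa [inv_mul_cancel_left] at h2
    · exfalso
      refine hq.2.1 (Γ.eq_of_commute_mul (hx.mem ha) (hx.symm.trans hap) ((hx.symm.trans hap).trans hqr) h1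
        (fun h2 => h1 ?_) hxc).symm
      have h3 := hxc.mul_right h2.inv_right
      rwa [mul_inv_cancel_right] at h3
  obtain ⟨ap, aq⟩ := key (Relation.ReflTransGen.refl) ((Commute.refl a).mul_right hb.2.2)
  obtain ⟨bp, bq⟩ := key hbr (hb.2.2.symm.mul_right (Commute.refl b))
  by_cases hpa : p = a
  · subst hpa; exact Or.inl ⟨rfl, (mul_left_cancel he).symm⟩
  by_cases hpb : p = b
  · subst hpb
    rw [hb.2.2.eq] at he
    exact Or.inr ⟨rfl, (mul_left_cancel he).symm⟩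
  exfalso
  have hqq : q = p * (a * b) := by rw [he, ← mul_assoc, Γ.sq p hp, one_mul]
  by_cases htw : Twin D b p a
  · refine (Γ.loc b hb.1).four p a htw ?_
    have e : b * p * a = q := by
      rw [hqq, bp.eq, mul_assoc, hb.2.2.eq]
    exact e ▸ hq.1
  obtain ⟨y, hy1, hy2, hy3⟩ : ∃ y, y ∈ nb D b ∧ Commute y p ∧ ¬ Commute y a := by
    by_contra hno
    push Not at hno
    exact htw ⟨⟨hp, hpb, bp⟩, nb_swap ha hb, hpa, ap.symm, fun y hy hyp => hno y hy hyp⟩
  have ha' : Reach D y a := (hbr.trans (reach_nb hb.1 hy1)).symm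
  have haq : a * q = b * p := by
    rw [hqq, ← mul_assoc, ap.eq, mul_assoc, ← mul_assoc a a b, Γ.sq a ha, one_mul, bp.eq]
  have hc : Commute y (a * q) := haq ▸ hy1.2.2.symm.mul_right hy2
  have hyq : ¬ Commute y q := fun h1 => hy3 (by
    have h2 := hc.mul_right h1.inv_right
    rwa [mul_inv_cancel_right] at h2)
  have haq' : a = q := Γ.eq_of_commute_mul hy1.1 ha' ((ha'.trans hap).trans hqr) hy3 hyq hc
  subst haq'
  have h6 : b = p := by
    have := haq
    rw [Γ.sq a ha] at this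
    rw [← mul_left_inj p, ← this, Γ.sq p hp]
  exact hpb h6.symm

/-- Exactly one member of each line through `a` is next to `b`. -/
theorem Graph.exists_unique_meet (Γ : Graph D) {a b : G} (ha : a ∈ D) (hr : Reach D a b) (hn : ¬ Commute a b)
    {x : G} (hx : x ∈ nb D a) : ∃! y, y ∈ nb D a ∩ nb D b ∧ (y = x ∨ Twin D a x y) := by
  have hbD : b ∈ D := hr.mem ha
  have hmemS : ∀ {y}, y ∈ nb D a → Commute b y → y ∈ nb D a ∩ nb D b := fun {y} h1 h2 =>
    ⟨h1, h1.1, fun e => hn (e ▸ h1.2.2), h2⟩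
  have huniq : ∀ {s t}, s ∈ nb D a ∩ nb D b → t ∈ nb D a ∩ nb D b → ¬ Twin D a s t := fun {s t} hs ht h => by
    have h1 := Γ.twin_symm hs.1.1 (h.rot ha)
    exact hn (h1.2.2.2.2 b (nb_swap hbD hs.2) ht.2.2.2).symm
  have hgood : ∀ {c x}, c ∈ nb D a ∩ nb D b → x ∈ nb D a → Commute x c →
      ∃ y, y ∈ nb D a ∩ nb D b ∧ (y = x ∨ Twin D a x y) := fun {c x} hc hx hxc => by
    by_cases h1 : x = c
    · exact ⟨c, hc, Or.inl h1.symm⟩
    by_cases h2 : Twin D a x c
    · exact ⟨c, hc, Or.inr h2⟩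
    obtain ⟨y, hy, hby⟩ := Γ.line_meet ha hc.1 hx hxc h1 h2 (nb_swap hbD hc.2) hn
    refine ⟨y, hmemS ?_ hby, hy⟩
    rcases hy with rfl | h
    exacts [hx, h.2.1]
  obtain ⟨y, hy, hyx⟩ : ∃ y, y ∈ nb D a ∩ nb D b ∧ (y = x ∨ Twin D a x y) := by
    obtain ⟨c, hc, hb⟩ := (Γ.close ha hr).resolve_left hn
    have hcS : c ∈ nb D a ∩ nb D b := ⟨hc, nb_swap hc.1 hb⟩
    by_cases hxc : Commute x c
    · exact hgood hcS hx hxc
    obtain ⟨p, hp, hpx, hpc⟩ := (Γ.loc a ha).join x hx c hc hxc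
    obtain ⟨s, hs, hsp⟩ := hgood hcS hp hpc
    refine hgood hs hx ?_
    rcases hsp with rfl | h
    exacts [hpx.symm, h.2.2.2.2 x hx hpx.symm]
  refine ⟨y, ⟨hy, hyx⟩, fun t ⟨ht, htx⟩ => ?_⟩
  by_contra hne
  rcases hyx with rfl | hy' <;> rcases htx with rfl | ht'
  · exact hne rfl
  · exact huniq hy ht ht'
  · exact huniq ht hy hy'
  · exact huniq hy ht (Γ.twin_trans ha hy' ht' (Ne.symm hne))

/-- Non-commuting members of a component have forty-five common neighbours. -/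
theorem Graph.common_card (Γ : Graph D) {a b : G} (ha : a ∈ D) (hr : Reach D a b) (hn : ¬ Commute a b) :
    (nb D a ∩ nb D b).ncard = 45 := by
  classical
  choose! f hf hfu using fun x (hx : x ∈ nb D a) => Γ.exists_unique_meet ha hr hn hx
  obtain ⟨V, hV⟩ : ∃ V : Finset G, V = (Set.toFinite (nb D a)).toFinset := ⟨_, rfl⟩
  obtain ⟨S, hS⟩ : ∃ S : Finset G, S = (Set.toFinite (nb D a ∩ nb D b)).toFinset := ⟨_, rfl⟩
  have hVm : ∀ {x}, x ∈ V ↔ x ∈ nb D a := fun {x} => by rw [hV, Set.Finite.mem_toFinset]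
  have hSm : ∀ {x}, x ∈ S ↔ x ∈ nb D a ∩ nb D b := fun {x} => by rw [hS, Set.Finite.mem_toFinset]
  have hfib : ∀ s ∈ S, (V.filter fun x => f x = s).card = 4 := fun s hs => by
    obtain ⟨hs1, hs2⟩ := hSm.1 hs
    have e : ((V.filter fun x => f x = s : Finset G) : Set G) = insert s {y | Twin D a s y} := by
      ext x
      rw [Finset.mem_coe, Finset.mem_filter, hVm, Set.mem_insert_iff, Set.mem_ofPred_eq]
      constructor
      · rintro ⟨hx, rfl⟩
        exact (hf x hx).2.imp Eq.symm fun h => Γ.twin_symm ha h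
      · intro h
        have hx : x ∈ nb D a := by
          rcases h with rfl | h
          exacts [hs1, h.2.1]
        refine ⟨hx, (hfu x hx s ⟨⟨hs1, hs2⟩, ?_⟩).symm⟩
        exact h.imp Eq.symm fun h => Γ.twin_symm ha h
    have hsc := (Γ.loc a ha).twin_card s hs1
    rw [← Set.ncard_coe_finset, e, Set.ncard_insert_of_notMem (fun h => h.2.2.1 rfl) (Set.toFinite _), hsc]
  have h1 := Finset.card_eq_sum_card_fiberwise (f := f) (s := V) (t := S) fun x hx => hSm.2 (hf x (hVm.1 hx)).1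
  rw [Finset.sum_congr rfl hfib, Finset.sum_const, smul_eq_mul, hV, ← Set.ncard_eq_toFinset_card _,
    (Γ.loc a ha).card, hS, ← Set.ncard_eq_toFinset_card _] at h1
  omega

/-- A component has 693 members. -/
theorem Graph.component_card (Γ : Graph D) {a : G} (ha : a ∈ D) : {b | Reach D a b}.ncard = 693 := by
  classical
  obtain ⟨V, hV⟩ : ∃ V : Finset G, V = (Set.toFinite (nb D a)).toFinset := ⟨_, rfl⟩
  obtain ⟨F, hF⟩ : ∃ F : Finset G, F = (Set.toFinite {b | Reach D a b ∧ ¬ Commute a b}).toFinset := ⟨_, rfl⟩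
  have hVm : ∀ {x}, x ∈ V ↔ x ∈ nb D a := fun {x} => by rw [hV, Set.Finite.mem_toFinset]
  have hFm : ∀ {x}, x ∈ F ↔ Reach D a x ∧ ¬ Commute a x := fun {x} => by rw [hF, Set.Finite.mem_toFinset]; rfl
  have hVc : V.card = 180 := by rw [hV, ← Set.ncard_eq_toFinset_card _, (Γ.loc a ha).card]
  have hc : ∀ c ∈ V, (Finset.bipartiteAbove (fun c b => b ∈ nb D c) F c).card = 128 := fun c hc => by
    obtain hc' := hVm.1 hc
    have hac := nb_swap ha hc'
    have e : ((F.filter fun b => b ∈ nb D c : Finset G) : Set G) = nb D c \ insert a (nb D c ∩ nb D a) := by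
      ext b
      rw [Finset.mem_coe, Finset.mem_filter, hFm, Set.mem_sdiff, Set.mem_insert_iff, not_or]
      refine ⟨fun ⟨⟨_, h2⟩, h3⟩ => ⟨h3, fun e => h2 (e ▸ Commute.refl a), fun h => h2 h.2.2.2⟩,
        fun ⟨h1, h2, h3⟩ => ⟨⟨(reach_nb ha hc').trans (reach_nb hc'.1 h1), fun h => h3 ⟨h1, h1.1, h2, h⟩⟩, h1⟩⟩
    have hins : insert a (nb D c ∩ nb D a) ⊆ nb D c := Set.insert_subset hac Set.inter_subset_left
    rw [Finset.bipartiteAbove, ← Set.ncard_coe_finset, e, Set.ncard_sdiff hins (Set.toFinite _),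
      Set.ncard_insert_of_notMem (fun h => h.2.2.1 rfl) (Set.toFinite _), (Γ.loc c hc'.1).card,
      (Γ.loc c hc'.1).deg a hac]
  have hb : ∀ b ∈ F, (Finset.bipartiteBelow (fun c b => b ∈ nb D c) V b).card = 45 := fun b hb => by
    obtain ⟨hr, hn⟩ := hFm.1 hb
    rw [Finset.bipartiteBelow, ← Set.ncard_coe_finset, ← Γ.common_card ha hr hn]
    refine congrArg Set.ncard (Set.ext fun c => ?_)
    rw [Finset.mem_coe, Finset.mem_filter, hVm]
    exact ⟨fun ⟨h1, h2⟩ => ⟨h1, nb_swap h1.1 h2⟩, fun ⟨h1, h2⟩ => ⟨h1, nb_swap (hr.mem ha) h2⟩⟩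
  have h1 := Finset.sum_card_bipartiteAbove_eq_sum_card_bipartiteBelow (fun c b => b ∈ nb D c) (s := V) (t := F)
  rw [Finset.sum_congr rfl hc, Finset.sum_congr rfl hb, Finset.sum_const, Finset.sum_const, smul_eq_mul,
    smul_eq_mul, hVc] at h1
  have e : {b | Reach D a b} = insert a (nb D a ∪ {b | Reach D a b ∧ ¬ Commute a b}) := by
    ext b
    rw [Set.mem_insert_iff, Set.mem_union, Set.mem_ofPred_eq, Set.mem_ofPred_eq]
    refine ⟨fun h => ?_, fun h => ?_⟩
    · by_cases hc' : Commute a b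
      · exact (eq_or_ne b a).imp id fun hne => Or.inl ⟨h.mem ha, hne, hc'⟩
      · exact Or.inr (Or.inr ⟨h, hc'⟩)
    · rcases h with rfl | h | h
      exacts [Relation.ReflTransGen.refl, reach_nb ha h, h.1]
  rw [e, Set.ncard_insert_of_notMem (fun h => h.elim (fun h => h.2.1 rfl) fun h => h.2 (Commute.refl a))
      (Set.toFinite _), Set.ncard_union_eq (Set.disjoint_left.2 fun x h1 h2 => h2.2 h1.2.2) (Set.toFinite _)
      (Set.toFinite _), (Γ.loc a ha).card, Set.ncard_eq_toFinset_card _, ← hF]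
  omega

end CfsgLib.KnownB.TypeUSix
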