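import Cfsg.Agent.Lib.Classical.UnitarySU
import Cfsg.Agent.Lib.Classical.SympOrder
import Mathlib.Data.ZMod.Basic

/-!
Among the symplectic groups over two elements and the unitary groups over four elements only PSU(6,2) has
order 9196830720.
-/

set_option autoImplicit false
set_option linter.style.haveILetI false

namespace CfsgLib.KnownB.TypeUSix

open Cfsg

theorem two_part_le {k : ℕ} (h : 2 ^ k ∣ 9 * 9196830720) : k ≤ 15 := by
  by_contra hk
  have h1 : 2 ^ 16 ∣ 9 * 9196830720 := (pow_dvd_pow 2 (show 16 ≤ k by omega)).trans h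
  norm_num at h1

/-- No symplectic group has this order. -/
theorem card_symp_ne (m : ℕ) : Nat.card (Matrix.symplecticGroup (Fin m) (ZMod 2)) ≠ 9196830720 := by
  intro h
  rw [CfsgLib.Classical.card_symplecticGroup, Fintype.card_fin, Nat.card_zmod] at h
  have hm : m ^ 2 ≤ 15 := two_part_le (Dvd.dvd.mul_left ⟨_, h.symm⟩ 9)
  have hm3 : m ≤ 3 := by nlinarith
  interval_cases m <;> simp only [Finset.prod_range_succ, Finset.prod_range_zero] at h <;> norm_num at h

/-- The dimension is six. -/
theorem psu_dim {n : ℕ} {F : Type} [Field F] [Fintype F] (hF : Fintype.card F = 4)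
    (h : Nat.card (Cfsg.PSU n F 2) = 9196830720) : n = 6 := by
  have hF' : Nat.card F = 2 ^ 2 := by rw [Nat.card_eq_fintype_card, hF]; norm_num
  rcases Nat.lt_or_ge n 2 with hn | hn
  · exfalso
    haveI hs : Subsingleton (Matrix.SpecialLinearGroup (Fin n) F) := by
      refine ⟨fun a b => Subtype.ext ?_⟩
      ext i j
      have hn1 : n = 1 := by have := i.2; omega
      subst hn1
      have ha := a.2
      have hb := b.2
      rw [Matrix.det_fin_one] at ha hb
      rw [Subsingleton.elim i 0, Subsingleton.elim j 0, ha, hb]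
    have h1 : Nat.card (Cfsg.PSU n F 2) ≤ Nat.card (Cfsg.SU n F 2) :=
      Nat.card_le_card_of_surjective _ (QuotientGroup.mk'_surjective (Subgroup.center (Cfsg.SU n F 2)))
    have h2 : Nat.card (Cfsg.SU n F 2) = 1 := Nat.card_unique
    omega
  have h1 := CfsgLib.Classical.card_PSU_mul (n := n) hF' hn
  rw [CfsgLib.Classical.card_GU hF', h] at h1
  have hg : Nat.gcd n (2 + 1) = 1 ∨ Nat.gcd n (2 + 1) = 3 :=
    (Nat.dvd_prime Nat.prime_three).1 (Nat.gcd_dvd_right n 3)
  have hdvd : 2 ^ (n * (n - 1) / 2) ∣ 9 * 9196830720 := by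
    have h2 : 2 ^ (n * (n - 1) / 2) ∣ Nat.gcd n (2 + 1) * ((2 + 1) * 9196830720) := ⟨_, h1⟩
    refine h2.trans ?_
    rcases hg with r | r <;> rw [r]
    exact ⟨3, by norm_num⟩
  have hn6 : n ≤ 6 := by
    have h3 := two_part_le hdvd
    by_contra hlt
    have h4 : 7 * 6 ≤ n * (n - 1) := Nat.mul_le_mul (by omega) (by omega)
    omega
  interval_cases n <;>
    simp only [Finset.prod_range_succ, Finset.prod_range_zero] at h1 <;>
    norm_num [parity_simps] at h1
  rfl

end CfsgLib.KnownB.TypeUSix
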