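import Cfsg.Agent.Lib.KnownB.TypeUSix.Defs
import Cfsg.Agent.Lib.KnownB.TypeUSix.Order
import Cfsg.Agent.S1616

/-!
A three-transposition group of the right order with a big core in the group of neighbours is PSU(6,2).
-/

set_option autoImplicit false

namespace CfsgLib.KnownB.TypeUSix

open Cfsg CfsgLib.ThreeTransp

universe u

variable {G : Type u} [Group G] [Finite G]

omit [Finite G] in
/-- The number of conjugates is the index of the centraliser. -/
theorem ncard_conjugatesOf (d : G) : (conjugatesOf d).ncard = (Subgroup.centralizer ({d} : Set G)).index := by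
  classical
  rw [← Nat.card_coe_set_eq, Subgroup.index_eq_card]
  refine (Nat.card_congr (Equiv.ofBijective (fun q : G ⧸ Subgroup.centralizer ({d} : Set G) =>
    Quotient.liftOn' q (fun g => (⟨g * d * g⁻¹, isConj_iff.2 ⟨g, rfl⟩⟩ : ↥(conjugatesOf d))) ?_) ⟨?_, ?_⟩)).symm
  · intro a b hab
    have hc : a⁻¹ * b * d = d * (a⁻¹ * b) :=
      Subgroup.mem_centralizer_singleton_iff.1 (QuotientGroup.leftRel_apply.1 hab)
    refine Subtype.ext ?_
    show a * d * a⁻¹ = b * d * b⁻¹
    rw [show b * d * b⁻¹ = a * (a⁻¹ * b * d) * b⁻¹ by group, hc]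
    group
  · rintro ⟨a⟩ ⟨b⟩ hab
    have e : a * d * a⁻¹ = b * d * b⁻¹ := congrArg Subtype.val hab
    refine Quotient.sound' (QuotientGroup.leftRel_apply.2 (Subgroup.mem_centralizer_singleton_iff.2 ?_))
    rw [show a⁻¹ * b * d = a⁻¹ * (b * d * b⁻¹) * b by group, ← e]
    group
  · rintro ⟨x, hx⟩
    obtain ⟨g, rfl⟩ := isConj_iff.1 (show IsConj d x from hx)
    exact ⟨QuotientGroup.mk g, rfl⟩

/-- The group is PSU(6,2). -/
theorem exists_iso_psu {d : G} (K : Cent (conjugatesOf d) d) (hts : IsThreeTranspositionClass (conjugatesOf d))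
    (hsol : ∀ N : Subgroup G, N.Normal → Group.IsSolvable ↥N → N = ⊥) (hperf : commutator G = ⊤)
    (hcard : (conjugatesOf d).ncard = 693) :
    ∃ (F : Type) (_ : Field F) (_ : Fintype F), Fintype.card F = 4 ∧ Nonempty (G ≃* Cfsg.PSU 6 F 2) := by
  have hG : Nat.card G = 9196830720 := by
    rw [← Subgroup.card_mul_index (Subgroup.centralizer ({d} : Set G)), K.card, ← ncard_conjugatesOf, hcard]
    norm_num
  have hp : ⁅commutator G, commutator G⁆ = commutator G := by rw [hperf, ← commutator_def, hperf]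
  rcases Cfsg.Agent.S1616.result hsol hp hts d mem_conjugatesOf_self K.core with ⟨m, ⟨e⟩⟩ | ⟨F, _, _, n, hF, ⟨e⟩⟩
  · exact absurd ((Nat.card_congr e.toEquiv).symm.trans hG) (card_symp_ne m)
  · have hn : n = 6 := psu_dim hF ((Nat.card_congr e.toEquiv).symm.trans hG)
    subst hn
    exact ⟨F, inferInstance, inferInstance, hF, ⟨e⟩⟩

end CfsgLib.KnownB.TypeUSix
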