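import Cfsg.Agent.Lib.KnownB.TypeUSix.Defs
import Cfsg.Prelude.Def_SporadicB
import Cfsg.Agent.Lib.Base.Cores

/-!
The members generate, the group has no solvable normal subgroup other than the trivial one, and it is perfect.
The connectedness of the graph and the orders of products of two members are hypotheses.
-/

set_option autoImplicit false

namespace CfsgLib.KnownB.TypeUSix

open Cfsg CfsgLib.ThreeTransp

universe u

variable {G : Type u} [Group G] {D : Set G} {d : G} {A : Subgroup G}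

/-- The centraliser of every member lies in the normal subgroup generated by all of them. -/
theorem Cent.centralizer_le (Γ : Graph D) (K : Cent D d) (hd : d ∈ D) {w g : G} (hw : w ∈ D) (hg : g * w * g⁻¹ = w) :
    g ∈ Subgroup.closure D := by
  obtain ⟨k, rfl⟩ := Γ.trans d hd w hw
  have hnorm : ∀ x ∈ Subgroup.closure D, k * x * k⁻¹ ∈ Subgroup.closure D := by
    intro x hx
    induction hx using Subgroup.closure_induction with
    | mem y hy => exact Subgroup.subset_closure (Γ.conj k y hy)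
    | one => simp
    | mul y z _ _ ihy ihz =>
      rw [show k * (y * z) * k⁻¹ = k * y * k⁻¹ * (k * z * k⁻¹) by group]
      exact mul_mem ihy ihz
    | inv y _ ihy =>
      rw [show k * y⁻¹ * k⁻¹ = (k * y * k⁻¹)⁻¹ by group]
      exact inv_mem ihy
  have h1 : k⁻¹ * g * k ∈ Subgroup.closure D := by
    refine Subgroup.closure_mono (fun y hy => hy.1) (K.gen.symm ▸ Subgroup.mem_centralizer_singleton_iff.2 ?_ :
      k⁻¹ * g * k ∈ Subgroup.closure (nb D d))
    exact mul_inv_eq_iff_eq_mul.1 (by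
      rw [show k⁻¹ * g * k * d * (k⁻¹ * g * k)⁻¹ = k⁻¹ * (g * (k * d * k⁻¹) * g⁻¹) * k by group, hg]
      group)
  have h2 := hnorm _ h1
  rwa [show k * (k⁻¹ * g * k) * k⁻¹ = g by group] at h2

/-- Two neighbours are conjugate under the subgroup generated by the members. -/
theorem Cent.step (Γ : Graph D) (K : Cent D d) (hd : d ∈ D) {x y : G} (hx : x ∈ D) (hy : y ∈ nb D x) :
    ∃ h ∈ Subgroup.closure D, h * x * h⁻¹ = y := by
  obtain ⟨w, hwx, hwy⟩ := Set.nonempty_of_ncard_ne_zero (s := nb D x ∩ nb D y)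
    (by rw [(Γ.loc x hx).deg y hy]; norm_num)
  obtain ⟨g, hgw, hgxy⟩ := (Γ.loc w hwx.1).move x ⟨hx, hwx.2.1.symm, hwx.2.2.symm⟩ y
    ⟨hy.1, hwy.2.1.symm, hwy.2.2.symm⟩
  exact ⟨g, K.centralizer_le Γ hd hwx.1 hgw, hgxy⟩

/-- The members generate the group. -/
theorem closure_eq_top (Γ : Graph D) (K : Cent D d) (hd : d ∈ D)
    (hconn : ∀ x ∈ D, Relation.ReflTransGen (fun a b => a ∈ D ∧ b ∈ nb D a) d x) : Subgroup.closure D = ⊤ := by
  have key : ∀ {x}, Relation.ReflTransGen (fun a b => a ∈ D ∧ b ∈ nb D a) d x →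
      ∃ h ∈ Subgroup.closure D, h * d * h⁻¹ = x := by
    intro x hx
    induction hx with
    | refl => exact ⟨1, one_mem _, by group⟩
    | tail _ hs ih =>
      obtain ⟨h, hh, rfl⟩ := ih
      obtain ⟨h', hh', e⟩ := K.step Γ hd hs.1 hs.2
      exact ⟨h' * h, mul_mem hh' hh, by rw [← e]; group⟩
  refine eq_top_iff.2 fun g _ => ?_
  obtain ⟨h, hh, he⟩ := key (hconn _ (Γ.conj g d hd))
  have h1 : h⁻¹ * g ∈ Subgroup.closure D := K.centralizer_le Γ hd hd (by
    rw [show h⁻¹ * g * d * (h⁻¹ * g)⁻¹ = h⁻¹ * (g * d * g⁻¹) * h by group, ← he]; group)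
  simpa using mul_mem hh h1

/-- The members form a class of three-transpositions. -/
theorem isThreeTranspositionClass (Γ : Graph D) (K : Cent D d) (hd : d ∈ D)
    (hconn : ∀ x ∈ D, Relation.ReflTransGen (fun a b => a ∈ D ∧ b ∈ nb D a) d x)
    (hts : IsThreeTranspositionSet D) : IsThreeTranspositionClass D := by
  refine ⟨hts, ⟨d, hd, Set.ext fun x => ⟨fun hx => ?_, fun hx => ?_⟩⟩, closure_eq_top Γ K hd hconn⟩
  · show IsConj d x
    exact isConj_iff.2 (Γ.trans d hd x hx)
  · obtain ⟨g, rfl⟩ := isConj_iff.1 (show IsConj d x from hx)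
    exact Γ.conj g d hd

/-- The group is perfect. -/
theorem perfect (Γ : Graph D) (K : Cent D d) (hd : d ∈ D)
    (hconn : ∀ x ∈ D, Relation.ReflTransGen (fun a b => a ∈ D ∧ b ∈ nb D a) d x) : commutator G = ⊤ := by
  refine eq_top_iff.2 (closure_eq_top Γ K hd hconn ▸ (Subgroup.closure_le _).2 fun x hx => ?_)
  obtain ⟨g, rfl⟩ := Γ.trans d hd x hx
  exact (inferInstance : (commutator G).Normal).conj_mem d K.derived g

variable [Finite G]

/-- An elementary abelian normal subgroup is trivial. -/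
theorem elementary_bot (Γ : Graph D) (F : Frame D d A) (K : Cent D d)
    (hconn : ∀ x ∈ D, Relation.ReflTransGen (fun a b => a ∈ D ∧ b ∈ nb D a) d x) {p : ℕ} (hp : p.Prime)
    (N : Subgroup G) [hN : N.Normal] (habel : ∀ x ∈ N, ∀ y ∈ N, Commute x y) (hexp : ∀ x ∈ N, x ^ p = 1) :
    N = ⊥ := by
  haveI := Fact.mk hp
  have hdd : d * d = 1 := Γ.sq d F.base
  have hd1 : d ≠ 1 := fun e => Γ.one (e ▸ F.base)
  have hNp : IsPGroup p ↥N := fun x => ⟨1, Subtype.ext (by rw [pow_one]; exact hexp x.1 x.2)⟩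
  obtain ⟨M, hM⟩ : ∃ M : Subgroup G, M = N ⊓ Subgroup.centralizer ({d} : Set G) := ⟨_, rfl⟩
  have hMm : ∀ {x}, x ∈ M ↔ x ∈ N ∧ Commute x d := fun {x} => by
    rw [hM, Subgroup.mem_inf, Subgroup.mem_centralizer_singleton_iff]; rfl
  have hMC : M ≤ Subgroup.centralizer ({d} : Set G) := hM ▸ inf_le_right
  have hMp : IsPGroup p ↥M := hNp.to_le (hM ▸ inf_le_left)
  have hMn : ∀ g : G, Commute g d → ∀ x ∈ M, g * x * g⁻¹ ∈ M := fun g hg x hx =>
    hMm.2 ⟨hN.conj_mem x (hMm.1 hx).1 g, by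
      have h1 := (commute_conj_iff g).2 (hMm.1 hx).2
      rwa [show g * d * g⁻¹ = d by rw [hg.eq, mul_inv_cancel_right]] at h1⟩
  rcases hp.eq_two_or_odd' with rfl | hodd
  · by_contra hbot
    obtain ⟨j, hj⟩ := IsPGroup.iff_card.1 hNp
    haveI := Fintype.ofFinite N
    let f : Equiv.Perm N := Function.Involutive.toPerm (fun x => ⟨d * x.1 * d⁻¹, hN.conj_mem _ x.2 d⟩)
      fun x => Subtype.ext (by
        show d * (d * x.1 * d⁻¹) * d⁻¹ = x.1
        rw [show d * (d * x.1 * d⁻¹) * d⁻¹ = (d * d) * x.1 * (d * d)⁻¹ by group, hdd]; group)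
    have h2 : 2 ∣ Fintype.card N := by
      rw [← Nat.card_eq_fintype_card, hj]
      refine dvd_pow_self 2 fun e0 => hbot (Subgroup.eq_bot_of_card_le _ ?_)
      rw [hj, e0, pow_zero]
    obtain ⟨x, hx, hx1⟩ := Equiv.Perm.exists_fixed_point_of_prime' (p := 2) (n := 1) h2 (σ := f)
      (Equiv.ext fun x => by rw [pow_one, pow_two]; exact f.apply_symm_apply x) (a := 1) (Subtype.ext (by
        show d * (1 : G) * d⁻¹ = 1
        group))
    have hxc : Commute x.1 d := (mul_inv_eq_iff_eq_mul.1 (congrArg Subtype.val hx)).symm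
    have hdN : d ∈ N := by
      refine (hMm.1 (K.two_mem M hMC hMn hMp fun e => hx1 (Subtype.ext ?_))).1
      exact (Subgroup.eq_bot_iff_forall _).1 e x.1 (hMm.2 ⟨x.2, hxc⟩)
    have htop : ∀ g : G, g ∈ N := by
      have h1 : Subgroup.closure D ≤ N := (Subgroup.closure_le _).2 fun y hy => by
        obtain ⟨g, rfl⟩ := Γ.trans d F.base y hy
        exact hN.conj_mem d hdN g
      rw [closure_eq_top Γ K F.base hconn] at h1
      exact fun g => h1 (Subgroup.mem_top g)
    have hcomm : commutator G = ⊥ := by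
      rw [commutator_def, eq_bot_iff, Subgroup.commutator_le]
      intro a _ b _
      rw [Subgroup.mem_bot, commutatorElement_eq_one_iff_commute]
      exact habel a (htop a) b (htop b)
    exact hd1 (Subgroup.mem_bot.1 (hcomm ▸ K.derived))
  · have hMbot : M = ⊥ := K.odd_trivial M hMC hMn (by
      obtain ⟨j, hj⟩ := IsPGroup.iff_card.1 hMp
      rw [hj]; exact hodd.pow)
    have hinv : ∀ z ∈ D, ∀ n ∈ N, z * n * z⁻¹ = n⁻¹ := by
      intro z hz
      obtain ⟨g, rfl⟩ := Γ.trans d F.base z hz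
      have key : ∀ n ∈ N, d * n * d⁻¹ = n⁻¹ := fun n hn => by
        refine eq_inv_of_mul_eq_one_right ((Subgroup.eq_bot_iff_forall _).1 hMbot _ (hMm.2
          ⟨mul_mem hn (hN.conj_mem n hn d), ?_⟩))
        refine (mul_inv_eq_iff_eq_mul.1 ?_).symm
        rw [show d * (n * (d * n * d⁻¹)) * d⁻¹ = d * n * d⁻¹ * ((d * d) * n * (d * d)⁻¹) by group, hdd, one_mul,
          inv_one, mul_one]
        exact (habel _ (hN.conj_mem n hn d) _ hn).eq
      intro n hn
      have h1 := key (g⁻¹ * n * g) (by simpa using hN.conj_mem n hn g⁻¹)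
      calc g * d * g⁻¹ * n * (g * d * g⁻¹)⁻¹ = g * (d * (g⁻¹ * n * g) * d⁻¹) * g⁻¹ := by group
        _ = n⁻¹ := by rw [h1]; group
    obtain ⟨T, hT, hlen, hprod⟩ := F.rel
    have key : ∀ L : List G, (∀ z ∈ L, z ∈ D) → ∀ n ∈ N,
        (Even L.length → L.prod * n * L.prod⁻¹ = n) ∧ (Odd L.length → L.prod * n * L.prod⁻¹ = n⁻¹) := by
      intro L
      induction L with
      | nil => intro _ n _; simp
      | cons z L ih =>
        intro hL n hn
        obtain ⟨h1, h2⟩ := ih (fun w hw => hL w (List.mem_cons_of_mem _ hw)) n hn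
        have hz := hinv z (hL z (by simp))
        rw [List.prod_cons, show z * L.prod * n * (z * L.prod)⁻¹ = z * (L.prod * n * L.prod⁻¹) * z⁻¹ by group,
          List.length_cons, Nat.even_add_one, Nat.odd_add_one, Nat.not_even_iff_odd, Nat.not_odd_iff_even]
        exact ⟨fun he => by rw [h2 he, hz _ (inv_mem hn), inv_inv], fun ho => by rw [h1 ho, hz n hn]⟩
    refine (Subgroup.eq_bot_iff_forall _).2 fun n hn => ?_
    have h1 := (key T (fun z hz => (hT z hz).2) n hn).2 hlen
    rw [hprod, one_mul, inv_one, mul_one] at h1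
    have h2 : n ^ 2 = 1 := by rw [pow_two]; exact eq_inv_iff_mul_eq_one.1 h1
    have h3 := Nat.dvd_gcd (orderOf_dvd_of_pow_eq_one h2) (orderOf_dvd_of_pow_eq_one (hexp n hn))
    rwa [Nat.Coprime.gcd_eq_one hodd.coprime_two_left, Nat.dvd_one, orderOf_eq_one_iff] at h3

/-- An abelian normal subgroup is trivial. -/
theorem abelian_bot (Γ : Graph D) (F : Frame D d A) (K : Cent D d)
    (hconn : ∀ x ∈ D, Relation.ReflTransGen (fun a b => a ∈ D ∧ b ∈ nb D a) d x)
    (N : Subgroup G) [hN : N.Normal] (habel : ∀ x ∈ N, ∀ y ∈ N, Commute x y) : N = ⊥ := by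
  by_contra hbot
  obtain ⟨p, hp, hdvd⟩ := Nat.exists_prime_and_dvd (n := Nat.card ↥N) (fun h => hbot (Subgroup.card_eq_one.1 h))
  haveI := Fact.mk hp
  obtain ⟨x, hx⟩ := exists_prime_orderOf_dvd_card' p hdvd
  let P : Subgroup G :=
    { carrier := {y | y ∈ N ∧ y ^ p = 1}
      one_mem' := ⟨one_mem _, one_pow p⟩
      mul_mem' := fun {a b} ha hb =>
        ⟨mul_mem ha.1 hb.1, by rw [(habel a ha.1 b hb.1).mul_pow, ha.2, hb.2, one_mul]⟩
      inv_mem' := fun {a} ha => ⟨inv_mem ha.1, by rw [inv_pow, ha.2, inv_one]⟩ }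
  haveI : P.Normal := ⟨fun y hy g => ⟨hN.conj_mem y hy.1 g, by rw [conj_pow, hy.2]; group⟩⟩
  have h1 := elementary_bot Γ F K hconn hp P (fun a ha b hb => habel a ha.1 b hb.1) (fun a ha => ha.2)
  have h2 : x.1 = 1 := (Subgroup.eq_bot_iff_forall _).1 h1 x.1 ⟨x.2, by
    rw [← SubgroupClass.coe_pow, ← hx, pow_orderOf_eq_one]; rfl⟩
  rw [show x = 1 from Subtype.ext h2, orderOf_one] at hx
  exact hp.one_lt.ne hx

/-- A solvable normal subgroup is trivial. -/
theorem solvable_bot (Γ : Graph D) (F : Frame D d A) (K : Cent D d)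
    (hconn : ∀ x ∈ D, Relation.ReflTransGen (fun a b => a ∈ D ∧ b ∈ nb D a) d x) :
    ∀ N : Subgroup G, N.Normal → Group.IsSolvable ↥N → N = ⊥ := by
  intro N
  induction N using WellFoundedLT.induction with
  | ind N ih =>
    intro hN hs
    haveI := hN
    haveI := hs
    by_contra hbot
    haveI : Nontrivial ↥N := (Subgroup.nontrivial_iff_ne_bot N).2 hbot
    have hlt : ⁅N, N⁆ < N := by
      refine lt_of_le_of_ne (Subgroup.commutator_le_self N) fun e => ?_
      refine (Group.IsSolvable.commutator_lt_top_of_nontrivial ↥N).ne ?_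
      refine Subgroup.map_injective (Subgroup.subtype_injective N) ?_
      rw [commutator_def, Subgroup.map_commutator, ← MonoidHom.range_eq_map, Subgroup.range_subtype, e]
    have hb := ih _ hlt (Subgroup.commutator_normal N N)
      (Group.isSolvable_of_isSolvable_injective (f := Subgroup.inclusion hlt.le) (Subgroup.inclusion_injective hlt.le))
    refine hbot (abelian_bot Γ F K hconn N fun a ha b hb' => ?_)
    have h1 := Subgroup.commutator_mem_commutator ha hb'
    rw [hb, Subgroup.mem_bot, commutatorElement_eq_one_iff_commute] at h1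
    exact h1

/-- The centre is trivial. -/
theorem center_eq_bot (Γ : Graph D) (F : Frame D d A) (K : Cent D d)
    (hconn : ∀ x ∈ D, Relation.ReflTransGen (fun a b => a ∈ D ∧ b ∈ nb D a) d x) : Subgroup.center G = ⊥ :=
  abelian_bot Γ F K hconn _ fun _ _ y hy => Subgroup.mem_center_iff.1 hy _

/-- There is no nontrivial normal subgroup of prime power order. -/
theorem pCore_eq_bot (Γ : Graph D) (F : Frame D d A) (K : Cent D d)
    (hconn : ∀ x ∈ D, Relation.ReflTransGen (fun a b => a ∈ D ∧ b ∈ nb D a) d x) (p : ℕ) [Fact p.Prime] :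
    pCore p G = ⊥ := by
  haveI hnil : Group.IsNilpotent ↥(pCore p G) := (CfsgLib.Base.isPGroup_pCore p G).isNilpotent
  exact solvable_bot Γ F K hconn _ inferInstance inferInstance

end CfsgLib.KnownB.TypeUSix
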