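import Cfsg.Agent.Lib.KnownB.TypeUSix.Graph
import Cfsg.Agent.Lib.KnownB.TypeUSix.Simple
import Cfsg.Agent.Lib.KnownB.TypeUSix.Iso

/-!
The data at an involution, a connected commuting graph and the three-transposition property give PSU(6,2).
-/

set_option autoImplicit false

namespace CfsgLib.KnownB.TypeUSix

open Cfsg CfsgLib.ThreeTransp
open CfsgLib.KnownB.TypeCentral (Reach)

universe u

variable {G : Type u} [Group G] [Finite G]

/-- The data, connectedness and the transposition property give the unitary group. -/
theorem exists_iso_of_parts {d : G} (h : Data d) (hconn : ∀ x ∈ conjugatesOf d, Reach (conjugatesOf d) d x)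
    (hts : IsThreeTranspositionSet (conjugatesOf d)) :
    ∃ (F : Type) (_ : Field F) (_ : Fintype F), Fintype.card F = 4 ∧ Nonempty (G ≃* Cfsg.PSU 6 F 2) := by
  have Γ := graph_of_data h
  obtain ⟨A, Fr⟩ := h.frame
  refine exists_iso_psu h.cent (isThreeTranspositionClass Γ h.cent mem_conjugatesOf_self hconn hts)
    (solvable_bot Γ Fr h.cent hconn) (perfect Γ h.cent mem_conjugatesOf_self hconn) ?_
  rw [← Γ.component_card (a := d) mem_conjugatesOf_self]
  exact congrArg Set.ncard (Set.ext fun x => ⟨fun hx => hconn x hx, fun hx => hx.mem mem_conjugatesOf_self⟩)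

end CfsgLib.KnownB.TypeUSix
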