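import Cfsg.Agent.Lib.KnownB.TypeUSix.Main
import Cfsg.Agent.Lib.KnownB.TypeUSix.Global

/-!
The data at one involution determine the group as PSU(6,2).
-/

set_option autoImplicit false

namespace CfsgLib.KnownB.TypeUSix

open Cfsg CfsgLib.ThreeTransp

universe u

variable {G : Type u} [Group G] [Finite G]

/-- The data alone give the unitary group. -/
theorem exists_iso_of_data {d : G} (h : Data d) :
    ∃ (F : Type) (_ : Field F) (_ : Fintype F), Fintype.card F = 4 ∧ Nonempty (G ≃* Cfsg.PSU 6 F 2) := by
  obtain ⟨A, Fr⟩ := h.frame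
  exact exists_iso_of_parts h (connected (graph_of_data h) Fr h.cent) (ts (graph_of_data h) Fr h.cent)

end CfsgLib.KnownB.TypeUSix
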