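import Cfsg.Agent.Lib.ThreeTransp.ProductUnique
import Cfsg.Agent.Lib.Components.Basic

/-!
A group with a central subgroup in the commutator subgroup and quotient PSU(6,2) is quasisimple.
-/

set_option autoImplicit false
set_option linter.style.haveILetI false

open scoped commutatorElement

namespace CfsgLib.KnownB.TypeUSix

open Cfsg

universe u

variable {C : Type u} [Group C]

/-- Quasisimplicity from the quotient. -/
theorem isQuasisimple_of_quot (E : Subgroup C) [E.Normal] (hc : E ≤ Subgroup.center C) (hE : E ≤ commutator C)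
    (hs : IsSimpleGroup (C ⧸ E)) (hp : commutator (C ⧸ E) = ⊤) : Cfsg.IsQuasisimple C := by
  haveI := hs
  have hmap : (commutator C).map (QuotientGroup.mk' E) = ⊤ := by
    rw [commutator_def, Subgroup.map_commutator, Subgroup.map_top_of_surjective _ (QuotientGroup.mk'_surjective E),
      ← commutator_def, hp]
  have htop : commutator C = ⊤ := by
    have h1 := congrArg (Subgroup.comap (QuotientGroup.mk' E)) hmap
    rwa [Subgroup.comap_map_eq, QuotientGroup.ker_mk', Subgroup.comap_top, sup_eq_left.2 hE] at h1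
  haveI : Nontrivial C := (QuotientGroup.mk_surjective (s := E)).nontrivial
  refine Components.isQuasisimple_of_normal_le_center (Group.isPerfect_def.2 htop) fun N hN hne => ?_
  haveI := hN
  rcases (Subgroup.Normal.map hN (QuotientGroup.mk' E) (QuotientGroup.mk'_surjective E)).eq_bot_or_eq_top with r | r
  · rw [Subgroup.map_eq_bot_iff, QuotientGroup.ker_mk'] at r
    exact r.trans hc
  · exfalso
    have h1 := congrArg (Subgroup.comap (QuotientGroup.mk' E)) r
    rw [Subgroup.comap_map_eq, QuotientGroup.ker_mk', Subgroup.comap_top] at h1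
    refine hne (eq_top_iff.2 ?_)
    rw [← htop, commutator_def, ← h1, Subgroup.commutator_le]
    intro a ha b hb
    rw [Subgroup.mem_sup_of_normal_right] at ha hb
    obtain ⟨n, hn, e, he, rfl⟩ := ha
    obtain ⟨m, hm, f, hf, rfl⟩ := hb
    have ce := Subgroup.mem_center_iff.1 (hc he)
    have cf := Subgroup.mem_center_iff.1 (hc hf)
    have e0 : ⁅n * e, m * f⁆ = ⁅n, m⁆ := by
      simp only [commutatorElement_def, mul_inv_rev]
      calc n * e * (m * f) * (e⁻¹ * n⁻¹) * (f⁻¹ * m⁻¹) = n * (e * (m * f) * e⁻¹) * n⁻¹ * (f⁻¹ * m⁻¹) := by group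
        _ = n * (m * f) * n⁻¹ * (f⁻¹ * m⁻¹) := by rw [← ce (m * f)]; group
        _ = n * m * (f * n⁻¹ * f⁻¹) * m⁻¹ := by group
        _ = n * m * n⁻¹ * m⁻¹ := by rw [← cf n⁻¹]; group
    rw [e0]
    rw [commutatorElement_def]
    exact mul_mem (mul_mem (mul_mem hn hm) (inv_mem hn)) (inv_mem hm)

/-- The quotient being PSU(6,2). -/
theorem isQuasisimple_of_psu (E : Subgroup C) [E.Normal] (hc : E ≤ Subgroup.center C) (hE : E ≤ commutator C)
    {F : Type} [Field F] [Fintype F] (hF : Fintype.card F = 4) (e : C ⧸ E ≃* Cfsg.PSU 6 F 2) :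
    Cfsg.IsQuasisimple C := by
  obtain ⟨hs, hna, -⟩ := CfsgLib.ThreeTransp.psu_six_simple hF
  haveI := hs
  haveI := MulEquiv.isSimpleGroup e
  refine isQuasisimple_of_quot E hc hE inferInstance ?_
  rcases (inferInstance : (commutator (C ⧸ E)).Normal).eq_bot_or_eq_top with r | r
  · exfalso
    refine hna ⟨⟨fun a b => e.symm.injective ?_⟩⟩
    rw [map_mul, map_mul]
    rw [commutator_def, Subgroup.commutator_eq_bot_iff_le_centralizer] at r
    exact (Subgroup.mem_centralizer_iff.1 (r (Subgroup.mem_top _)) _ (Subgroup.mem_top _)).symm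
  · exact r

end CfsgLib.KnownB.TypeUSix
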